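import Cfsg.Agent.Trans.Centric
import Cfsg.Agent.Local.Bar
import Cfsg.Agent.S3058

/-!
The strong form of the Alperin-Goldschmidt fusion theorem: only subgroups whose automizer quotient
has a strongly `p`-embedded subgroup are needed.
-/

set_option autoImplicit false

namespace Cfsg.Lib.Trans.StrongAG

open Subgroup Cfsg Cfsg.Lib.Trans
open Cfsg.Lib.Local (resOf bar unbar SE)

variable {G : Type*} [Group G] {p : ℕ}

/-- `M / D` is strongly `p`-embedded in `N(D) / D`, in ambient terms. -/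
def SEOver (p : ℕ) (D M : Subgroup G) : Prop :=
  D ≤ M ∧ M < normalizer (D : Set G) ∧ p ∣ D.relIndex M ∧
    ∀ x ∈ M, x ∉ D → x ^ p ∈ D → ∀ g ∈ normalizer (D : Set G), g * x * g⁻¹ ∈ M → g ∈ M

theorem SEOver.cj {D M : Subgroup G} (h : SEOver p D M) (n : G) :
    SEOver p (cj n D) (cj n M) := by
  obtain ⟨h1, h2, h3, h4⟩ := h
  refine ⟨cj_mono n h1, by rw [← cj_normalizer]; exact cj_lt_cj.2 h2, by rwa [relIndex_cj],
    fun x hx hxD hxp g hg hgx => ?_⟩
  rw [← cj_normalizer] at hg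
  rw [mem_cj] at *
  refine h4 _ hx hxD ?_ _ hg ?_
  · have : (n⁻¹ * x * n) ^ p = n⁻¹ * x ^ p * n := by
      simpa using (conj_pow (a := n⁻¹) (b := x) (i := p))
    rwa [this]
  · convert hgx using 1; group

theorem SEOver.not_conn [Finite G] [hp : Fact p.Prime] {D M : Subgroup G} (h : SEOver p D M) :
    ¬ IsSylowChainConnected p
      (normalizer (D : Set G) ⧸ D.subgroupOf (normalizer (D : Set G))) := by
  obtain ⟨h1, h2, h3, h4⟩ := h
  set N := normalizer (D : Set G) with hN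
  have hDN : D ≤ N := le_normalizer
  have hu : unbar N D (bar N D M) = M := by
    rw [Local.unbar_bar h2.le, inf_of_le_right hDN, sup_of_le_left h1]
  have hmem : ∀ x : N, (QuotientGroup.mk x : N ⧸ D.subgroupOf N) ∈ bar N D M ↔ (x : G) ∈ M := by
    intro x
    refine ⟨fun hx => ?_, Local.mk_mem_bar⟩
    rw [← hu]
    exact ⟨x, hx, rfl⟩
  refine Solv.not_isSylowChainConnected_iff_se.2 ⟨bar N D M, ?_, ?_, ?_⟩
  · intro ht
    rw [Local.bar_eq_top_iff h2.le, inf_of_le_right hDN, sup_of_le_left h1] at ht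
    exact h2.ne ht
  · rwa [Local.card_bar h2.le]
  · intro x hx ho g hg
    obtain ⟨x, rfl⟩ := QuotientGroup.mk_surjective x
    obtain ⟨g, rfl⟩ := QuotientGroup.mk_surjective g
    rw [hmem] at hx ⊢
    rw [← QuotientGroup.mk_inv, ← QuotientGroup.mk_mul, ← QuotientGroup.mk_mul, hmem] at hg
    refine h4 x hx (fun hD => ?_) ?_ g g.2 hg
    · have : (QuotientGroup.mk x : N ⧸ D.subgroupOf N) = 1 := (QuotientGroup.eq_one_iff _).2 hD
      rw [this, orderOf_one] at ho
      exact hp.out.one_lt.ne ho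
    · have := pow_orderOf_eq_one (QuotientGroup.mk x : N ⧸ D.subgroupOf N)
      rw [ho, ← QuotientGroup.mk_pow, QuotientGroup.eq_one_iff] at this
      exact this

/-- `X / D` is the smallest normal subgroup of `N(D) / D` of order divisible by `p`. -/
def MinX (p : ℕ) (D X : Subgroup G) : Prop :=
  D ≤ X ∧ X ≤ normalizer (D : Set G) ∧ normalizer (D : Set G) ≤ normalizer (X : Set G) ∧
    p ∣ D.relIndex X ∧
    ∀ Y : Subgroup G, D ≤ Y → Y ≤ normalizer (D : Set G) →
      normalizer (D : Set G) ≤ normalizer (Y : Set G) → p ∣ D.relIndex Y → X ≤ Y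

theorem MinX.cj {D X : Subgroup G} (h : MinX p D X) (n : G) : MinX p (cj n D) (cj n X) := by
  obtain ⟨h1, h2, h3, h4, h5⟩ := h
  refine ⟨cj_mono n h1, by rw [← cj_normalizer]; exact cj_mono n h2,
    by rw [← cj_normalizer, ← cj_normalizer]; exact cj_mono n h3, by rwa [relIndex_cj],
    fun Y a b c d => ?_⟩
  rw [cj_le_iff_le_cj_inv] at a ⊢
  refine h5 _ a ?_ ?_ ?_
  · rwa [cj_inv_le_iff_le_cj, cj_normalizer]
  · rwa [← cj_normalizer, ← cj_le_iff_le_cj_inv, cj_normalizer]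
  · rwa [← relIndex_cj n, cj_cj_inv]

theorem exists_minX [Finite G] [hp : Fact p.Prime] {D M : Subgroup G} (h : SEOver p D M) :
    ∃ X, MinX p D X := by
  have hc := h.not_conn
  set N := normalizer (D : Set G) with hN
  have hDN : D ≤ N := le_normalizer
  let F : Set (Subgroup G) := {Y | D ≤ Y ∧ Y ≤ N ∧ N ≤ normalizer (Y : Set G) ∧ p ∣ D.relIndex Y}
  have hF : F.Nonempty := ⟨N, hDN, le_rfl, le_normalizer,
    h.2.2.1.trans (Dvd.intro _ (relIndex_mul_relIndex D M N h.1 h.2.1.le))⟩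
  obtain ⟨X, hX, hmin⟩ := (Set.toFinite F).exists_minimal hF
  refine ⟨X, hX.1, hX.2.1, hX.2.2.1, hX.2.2.2, fun Y a b c d => ?_⟩
  have := Local.bar_normal (E := N) (C := D) hX.2.2.1
  have := Local.bar_normal (E := N) (C := D) c
  have h1 := Cfsg.Agent.S3058.result p hc (bar N D X) (bar N D Y)
    (by rw [Local.card_bar hX.2.1]; exact hX.2.2.2) (by rw [Local.card_bar b]; exact d)
  have h2 : bar N D X ⊓ bar N D Y = bar N D (X ⊓ Y) := by
    refine le_antisymm ?_ (le_inf (Local.bar_mono inf_le_left) (Local.bar_mono inf_le_right))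
    rintro q ⟨⟨x, hx, rfl⟩, hy⟩
    have hu : unbar N D (bar N D Y) = Y := by
      rw [Local.unbar_bar b, inf_of_le_right hDN, sup_of_le_left a]
    have hy' : (x : G) ∈ Y := by
      rw [← hu]
      exact ⟨x, hy, rfl⟩
    exact Local.mk_mem_bar ⟨hx, hy'⟩
  rw [h2, Local.card_bar (inf_le_left.trans hX.2.1)] at h1
  have h3 : X ⊓ Y ∈ F := ⟨le_inf hX.1 a, inf_le_left.trans hX.2.1, fun g hg => by
    rw [← cj_eq_self_iff, cj_inf, cj_eq_of_mem_normalizer (hX.2.2.1 hg),
      cj_eq_of_mem_normalizer (c hg)], h1⟩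
  exact (hmin h3 inf_le_left).trans inf_le_right

theorem cj_map_pPrimePCore [Finite G] [Fact p.Prime] (n : G) (N : Subgroup G) :
    cj n ((pPrimePCore p N).map N.subtype) = (pPrimePCore p (cj n N)).map (cj n N).subtype := by
  rw [← Solv.map_pPrimePCore_equiv (cjEquiv n N), map_map, cj, map_map]
  rfl

/-- The conditions on a step of the strong fusion theorem. -/
def Cond (p : ℕ) (S : Subgroup G) (HX : Subgroup G × Subgroup G) (x : G) : Prop :=
  HX.1 ≤ S ∧ FullyNorm p S ⊤ HX.1 ∧ S ⊓ centralizer (HX.1 : Set G) ≤ HX.1 ∧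
    (pPrimePCore p (normalizer (HX.1 : Set G))).map (normalizer (HX.1 : Set G)).subtype =
      HX.1 ⊔ centralizer (HX.1 : Set G) ∧ (∃ M, SEOver p HX.1 M) ∧ MinX p HX.1 HX.2 ∧
    x ∈ resOf p HX.2

theorem Cond.cj [Finite G] [Fact p.Prime] {S H X : Subgroup G} {x n : G}
    (hn : n ∈ normalizer (S : Set G)) (h : Cond p S (H, X) x) :
    Cond p S (cj n H, cj n X) (n * x * n⁻¹) := by
  obtain ⟨h1, h2, h3, h4, ⟨M, h5⟩, h6, h7⟩ := h
  have e := cj_eq_of_mem_normalizer hn
  refine ⟨e ▸ cj_mono n h1, ?_, ?_, ?_, ⟨_, h5.cj n⟩, h6.cj n, ?_⟩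
  · have := h2.cj n
    rwa [cj_inf, cj_inf, cj_top, e, cj_normalizer] at this
  · have := cj_mono n h3
    rwa [cj_inf, e, cj_centralizer] at this
  · have := congrArg (Trans.cj n) h4
    rw [cj_map_pPrimePCore, cj_sup, cj_centralizer] at this
    dsimp only
    rw [← cj_normalizer]
    exact this
  · dsimp only
    rw [← Local.cj_resOf, conj_mem_cj]
    exact h7

/-- The step relation. -/
abbrev Step (p : ℕ) (S : Subgroup G) : Set G → G → Prop :=
  fun B x => ∃ HX : Subgroup G × Subgroup G, B ⊆ (HX.1 : Set G) ∧ Cond p S HX x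

theorem step_anti (S : Subgroup G) (A B : Set G) (x : G) (h : A ⊆ B) (hx : Step p S B x) :
    Step p S A x := by
  obtain ⟨D, h1, h2⟩ := hx
  exact ⟨D, h.trans h1, h2⟩

theorem rchain_conj [Finite G] [Fact p.Prime] {S : Subgroup G} {n : G}
    (hn : n ∈ normalizer (S : Set G)) {B : Set G} {y : G} (h : RChain (Step p S) B y) :
    RChain (Step p S) ((fun a => n * a * n⁻¹) '' B) (n * y * n⁻¹) := by
  induction h with
  | nil A => simpa using RChain.nil _
  | @cons A x g hx _ ih =>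
    obtain ⟨⟨H, X⟩, h1, h2⟩ := hx
    have e : n * (x * g) * n⁻¹ = (n * x * n⁻¹) * (n * g * n⁻¹) := by group
    rw [e]
    refine RChain.cons ⟨(cj n H, cj n X), ?_, h2.cj hn⟩ ?_
    · rw [coe_cj]; exact Set.image_mono h1
    · convert ih using 1
      simp only [Set.image_image]
      congr 1
      ext a
      group

/-- The relation carried through Alperin's induction. -/
def Rel (p : ℕ) (S A : Subgroup G) (g : G) : Prop :=
  ∃ c ∈ centralizer (A : Set G), ∃ y, ∃ n ∈ normalizer (S : Set G),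
    g⁻¹ = c * y * n ∧ RChain (Step p S) A y

theorem Rel.mono {S A B : Subgroup G} {g : G} (hAB : A ≤ B) (h : Rel p S B g) : Rel p S A g := by
  obtain ⟨c, hc, y, n, hn, e, h⟩ := h
  exact ⟨c, centralizer_le hAB hc, y, n, hn, e, h.anti (step_anti S) hAB⟩

theorem Rel.mul [Finite G] [Fact p.Prime] {S A : Subgroup G} {g h : G} (h1 : Rel p S A g)
    (h2 : Rel p S (cj g A) h) : Rel p S A (h * g) := by
  obtain ⟨c, hc, y, n, hn, e, h1⟩ := h1
  obtain ⟨c', hc', y', n', hn', e', h2⟩ := h2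
  have e1 : cj g A = cj (y * n)⁻¹ A := by
    rw [← inv_inv g, e, mul_assoc, mul_inv_rev c, cj_mul, cj_eq_of_mem_centralizer (inv_mem hc)]
  rw [e1] at hc' h2
  refine ⟨c * ((y * n)⁻¹⁻¹ * c' * (y * n)⁻¹), mul_mem hc
    (conj_mem_centralizer_of_mem_centralizer_cj hc'), y * (n * y' * n⁻¹), n * n', mul_mem hn hn',
    ?_, h1.trans ?_⟩
  · rw [mul_inv_rev, e, e']; group
  · have := rchain_conj hn h2
    rwa [← coe_cj, cj_cj, mul_inv_rev, mul_inv_cancel_left, coe_cj_inv] at this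

theorem rel_all [Finite G] [hp : Fact p.Prime] {S : Subgroup G} (hS : IsSylowIn p S ⊤) :
    ∀ T ≤ S, ∀ g, cj g T ≤ S → Rel p S T g := by
  refine alperin_goldschmidt hS (Rel p S) (fun A B g => Rel.mono) (fun A g h => Rel.mul)
    (fun A c hc => ⟨c⁻¹, inv_mem hc, 1, 1, one_mem _, by simp, RChain.nil _⟩) ?_
  intro D hD ih
  rcases hD.1.eq_or_lt with rfl | hlt
  · intro n hn
    exact ⟨1, one_mem _, 1, n⁻¹, inv_mem hn, by simp, RChain.nil _⟩
  set N := normalizer (D : Set G) with hN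
  have hDN : D ≤ N := le_normalizer
  let M : Subgroup G :=
    { carrier := {n | n ∈ N ∧ Rel p S D n}
      one_mem' := ⟨one_mem _, 1, one_mem _, 1, 1, one_mem _, by simp, RChain.nil _⟩
      mul_mem' := fun {a b} ha hb => ⟨mul_mem ha.1 hb.1,
        hb.2.mul (by rw [cj_eq_of_mem_normalizer hb.1]; exact ha.2)⟩
      inv_mem' := fun {a} ha => by
        have key : ∀ k : ℕ, a ^ k ∈ N ∧ Rel p S D (a ^ k) := by
          intro k
          induction k with
          | zero =>
            rw [pow_zero]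
            exact ⟨one_mem _, 1, one_mem _, 1, 1, one_mem _, by simp, RChain.nil _⟩
          | succ k ihk =>
            rw [pow_succ]
            exact ⟨mul_mem ihk.1 ha.1,
              ha.2.mul (by rw [cj_eq_of_mem_normalizer ha.1]; exact ihk.2)⟩
        have e : a⁻¹ = a ^ (orderOf a - 1) := by
          rw [inv_eq_iff_mul_eq_one, ← pow_succ', Nat.sub_add_cancel (orderOf_pos a),
            pow_orderOf_eq_one]
        show a⁻¹ ∈ N ∧ Rel p S D a⁻¹
        rw [e]; exact key _ }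
  have hMN : M ≤ N := fun n hn => hn.1
  have hM : ∀ V, D < V → V ≤ S → ∀ n ∈ N, cj n V ≤ S → n ∈ M := fun V h1 h2 n hn h3 =>
    ⟨hn, (ih V h2 (card_lt_of_lt h1) n h3).mono h1.le⟩
  have hT : IsSylowIn p (S ⊓ N) N := fullyNorm_top_iff'.mp hD.2.1
  have hDT : D < S ⊓ N := lt_inf_normalizer hS.isPGroup hlt
  have hTM : S ⊓ N ≤ M := fun t ht =>
    hM _ hDT inf_le_left t ht.2 (by rw [cj_eq_of_mem ht]; exact inf_le_left)
  have hDp : IsPGroup p D := hS.isPGroup.to_le hD.1
  suffices h : N ≤ M from fun n hn => (h hn).2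
  by_contra hne
  have hdvd : ∀ V, D < V → IsPGroup p V → p ∣ D.relIndex V := by
    intro V h1 h2
    by_contra h3
    exact h1.ne ((IsSylowIn.eq_of_le ⟨h1.le, hDp, h3⟩ h2 h1.le le_rfl).symm)
  have hse : SEOver p D M := by
    refine ⟨hDT.le.trans hTM, lt_of_le_not_ge hMN hne,
      (hdvd _ hDT hT.isPGroup).trans (Dvd.intro _ (relIndex_mul_relIndex D _ M hDT.le hTM)),
      fun x hx hxD hxp g hg hgx => ?_⟩
    have hTM' := hT.mono hTM hMN
    have hV : IsPGroup p (D ⊔ zpowers x : Subgroup G) := by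
      refine IsPGroup.to_sup_of_normal_left' hDp ?_ (zpowers_le.2 (hMN hx))
      obtain ⟨k, hk⟩ := hDp ⟨_, hxp⟩
      have h0 : x ^ p ^ (k + 1) = 1 := by
        rw [pow_succ', pow_mul]
        exact congrArg Subtype.val hk
      obtain ⟨j, -, hj⟩ := (Nat.dvd_prime_pow hp.out).1 (orderOf_dvd_of_pow_eq_one h0)
      exact Local.isPGroup_zpowers_of_orderOf hj
    have hVM : D ⊔ zpowers x ≤ M := sup_le (hDT.le.trans hTM) (zpowers_le.2 hx)
    have hVM' : cj g (D ⊔ zpowers x) ≤ M := by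
      rw [cj_sup, cj_eq_of_mem_normalizer hg, cj_zpowers]
      exact sup_le (hDT.le.trans hTM) (zpowers_le.2 hgx)
    obtain ⟨a, ha, h1⟩ := hTM'.exists_cj_le hV hVM
    obtain ⟨b, hb, h2⟩ := hTM'.exists_cj_le (isPGroup_cj hV g) hVM'
    have h3 : b * g * a⁻¹ ∈ M := by
      refine hM (cj a (D ⊔ zpowers x)) ?_ (h1.trans inf_le_left) _
        (mul_mem (mul_mem (hMN hb) hg) (inv_mem (hMN ha))) ?_
      · conv_lhs => rw [← cj_eq_of_mem_normalizer (hMN ha)]
        exact cj_lt_cj.2 (left_lt_sup.2 fun h => hxD (h (mem_zpowers x)))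
      · rw [cj_cj, inv_mul_cancel_right, cj_mul]
        exact h2.trans inf_le_left
    have h4 := mul_mem (mul_mem (inv_mem hb) h3) ha
    simpa [mul_assoc] using h4
  obtain ⟨X, hX⟩ := exists_minX hse
  have hcore : (pPrimePCore p N).map N.subtype = D ⊔ centralizer (D : Set G) := by
    have h1 := hD.isInternalDirectProduct hS.isPGroup
    refine le_antisymm ?_ (sup_le h1.2.1 (hD.centralizer_le hS.isPGroup))
    rw [← h1.2.2.2.2]
    exact sup_le (le_sup_of_le_right (map_pPrimeCore_normalizer_le_centralizer hDp)) le_sup_left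
  have hres : resOf p X ≤ M := fun x hx => ⟨hX.2.1 (Local.resOf_le X hx), 1, one_mem _, x⁻¹, 1,
    one_mem _, by simp, RChain.single ⟨(D, X), subset_rfl, hD.1, hD.2.1, hD.2.2.1, hcore,
      ⟨M, hse⟩, hX, inv_mem hx⟩⟩
  have hTX := hT.inf_normal_of_le hX.2.2.1 hX.2.1
  have hXM : X ≤ M := by
    rw [← Local.resOf_sup_sylowIn hTX]
    exact sup_le hres (inf_le_left.trans hTM)
  have hlt2 : D < S ⊓ N ⊓ X := by
    refine lt_of_le_of_ne (le_inf hDT.le hX.1) fun h => hTX.not_dvd ?_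
    rw [← h]
    exact hX.2.2.2.1
  refine hne fun n hn => ?_
  obtain ⟨k, hk, m, hm, rfl⟩ := hTX.frattini (hX.2.2.1 hn)
  refine mul_mem (hXM hk) (hM _ hlt2 (inf_le_left.trans inf_le_left) m
    ((N.mul_mem_cancel_left (hX.2.1 hk)).1 hn) ?_)
  rw [cj_eq_of_mem_normalizer hm]
  exact inf_le_left.trans inf_le_left

end Cfsg.Lib.Trans.StrongAG
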