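import Cfsg.Agent.Trans.BlkExcQ

/-! Baumann blocks: `BK.qc`, `BK.res_cent`, `BK.cent_norm`, `BK.Q_le` (collected). -/
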