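import Cfsg.Agent.Trans.SigBasic
import Cfsg.Agent.Trans.LocalBalance
import Cfsg.Agent.FT.Rank
import Cfsg.Agent.Gate.S0217

/-!
Equivariant signalizer functors on a connected commuting graph are trivial.
-/

set_option autoImplicit false
set_option linter.unusedSectionVars false

open Pointwise Cfsg Cfsg.Agent Cfsg.Lib.Solv Cfsg.Lib.FT

namespace Cfsg.Lib.Trans.Sig

universe u

variable {G : Type u} [Group G] [Finite G] {p : ℕ} [hp : Fact p.Prime]

theorem exists_elem_of_not_pRankLE {H : Subgroup G} {k : ℕ} (h : ¬ PRankLE p k H) :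
    ∃ E, E ∈ Elem p (k + 1) H := p_rank_geP.1 (lt_pRank_iff.2 h)

theorem not_pRankLE_of_le {H E : Subgroup G} {k : ℕ} (hE : IsElementaryAbelian p E) (h : E ≤ H)
    (hc : p ^ (k + 1) ≤ Nat.card E) : ¬ PRankLE p k H := fun hr =>
  absurd (hc.trans (pRankLE_iff.1 hr E h hE))
    (not_le.2 (Nat.pow_lt_pow_right hp.out.one_lt (by omega)))

/-- An elementary abelian subgroup whose centralizer has rank more than `k` lies in an elementary
abelian subgroup of rank more than `k`. -/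
theorem exists_abelem_ge {E : Subgroup G} {k : ℕ} (hE : IsElementaryAbelian p E)
    (h : ¬ PRankLE p k (𝐂 E)) :
    ∃ A, IsElementaryAbelian p A ∧ p ^ (k + 1) ≤ Nat.card A ∧ E ≤ A := by
  obtain ⟨F, hF⟩ := exists_elem_of_not_pRankLE h
  exact ⟨E ⊔ F, abelemY hE (pnElem_abelem hF) (pnElem_sub hF),
    (card_pnElem hF).ge.trans (Subgroup.card_le_of_le le_sup_right), le_sup_left⟩

theorem pow_succ_le_card_of_lt {E A : Subgroup G} {k : ℕ} (hA : IsPGroup p A) (h : E < A)
    (hE : p ^ k ≤ Nat.card E) : p ^ (k + 1) ≤ Nat.card A := by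
  obtain ⟨m, hm⟩ := pgroup_card_pow hA
  have h1 := hE.trans_lt (proper_card h)
  rw [hm] at h1 ⊢
  exact Nat.pow_le_pow_right hp.out.pos ((Nat.pow_lt_pow_iff_right hp.out.one_lt).1 h1)

/-- The closure of a complete functor is generated by the values on any noncyclic subgroup. -/
theorem closure_eq_of_le {A E : Subgroup G} {θ : G → Subgroup G} (hA : IsElementaryAbelian p A)
    (hn : ∀ a ∈ A, a ≠ 1 → A ≤ 𝐍 (θ a)) (h1 : ¬ p ∣ Nat.card (signalizerClosure A θ))
    (h2 : ∀ a ∈ A, a ≠ 1 → signalizerClosure A θ ⊓ 𝐂₁ a = θ a) (hE : E ≤ A)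
    (hE2 : p ^ 2 ≤ Nat.card E) : signalizerClosure E θ = signalizerClosure A θ :=
  le_antisymm (closure_le fun _ ha h => le_closure (hE ha) h)
    (le_of_cent1 (abelemS hE hA) hE2 (hE.trans (norms_closure hn)) h1 fun b hb hb1 =>
      (h2 b (hE hb) hb1).le.trans (le_closure hb hb1))

theorem conj_closure {E : Subgroup G} {θ : G → Subgroup G} (g : G)
    (h : ∀ a ∈ E, a ≠ 1 → θ (g * a * g⁻¹) = g •ᶜ θ a) :
    g •ᶜ signalizerClosure E θ = signalizerClosure (g •ᶜ E) θ := by
  refine le_antisymm ?_ (closure_le fun a ha h1 => ?_)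
  · rw [signalizerClosure, conj_smul_iSup]
    refine iSup_le fun a => ?_
    rw [← h a a.2.1 a.2.2]
    exact le_closure (conj_mem_conj_smul g a.2.1) (fun h => a.2.2 (conjg_eq1.1 h))
  · obtain ⟨b, hb, rfl⟩ := mem_conj_smul_iff_exists.1 ha
    have hb1 : b ≠ 1 := fun h => h1 (conjg_eq1.2 h)
    rw [h b hb hb1]
    exact conj_smul_mono g (le_closure hb hb1)

/-- An equivariant family of subgroups which is a complete signalizer functor on each elementary
abelian subgroup of rank at least three is trivial if the rank graph is connected. -/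
theorem eq_bot_of_connected (hO : pPrimeCore p G = ⊥) (hconn : IsRankGraphConnected p 2 G)
    {θ : G → Subgroup G}
    (heq : ∀ a g : G, orderOf a = p → ¬ PRankLE p 2 (𝐂₁ a) → θ (g * a * g⁻¹) = g •ᶜ θ a)
    (hc : ∀ A : Subgroup G, IsElementaryAbelian p A → p ^ 3 ≤ Nat.card A →
      ¬ p ∣ Nat.card (signalizerClosure A θ) ∧
        ∀ a ∈ A, a ≠ 1 → signalizerClosure A θ ⊓ 𝐂₁ a = θ a)
    {a : G} (ha : orderOf a = p) (ha3 : ¬ PRankLE p 2 (𝐂₁ a)) : θ a = ⊥ := by
  have hle : ∀ {A : Subgroup G} {a : G}, IsElementaryAbelian p A → a ∈ A → A ≤ 𝐂₁ a :=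
    fun hA ha => (abelian_le_cent (abelem_abelian hA)).trans (cent_le_cent1 ha)
  have heq' : ∀ A : Subgroup G, IsElementaryAbelian p A → p ^ 3 ≤ Nat.card A → ∀ g : G,
      ∀ a ∈ A, a ≠ 1 → θ (g * a * g⁻¹) = g •ᶜ θ a := fun A hA h3 g a ha h1 =>
    heq a g (abelem_order_p hA ha h1) (not_pRankLE_of_le hA (hle hA ha) h3)
  have hsub : ∀ A E : Subgroup G, IsElementaryAbelian p A → p ^ 3 ≤ Nat.card A → E ≤ A →
      p ^ 2 ≤ Nat.card E → signalizerClosure E θ = signalizerClosure A θ := by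
    intro A E hA h3 hE h2
    refine closure_eq_of_le hA (fun a ha h1 b hb => ?_) (hc A hA h3).1 (hc A hA h3).2 hE h2
    rw [normP, ← heq' A hA h3 b a ha h1, abelian_comm (abelem_abelian hA) hb ha, mul_inv_cancel_right]
  have hall : ∀ E E' : Subgroup G, IsRankGraphVertex p 2 E → IsRankGraphVertex p 2 E' →
      signalizerClosure E θ = signalizerClosure E' θ := by
    intro E E' hE hE'
    have h := hconn E E' hE hE'
    clear hE'
    induction h with
    | refl => rfl
    | @tail B D _ h ih =>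
      obtain ⟨hB, hD, hBD⟩ := h
      rw [ih]
      have hA : IsElementaryAbelian p (B ⊔ D : Subgroup G) :=
        abelemY hB.1 hD.1 fun d hd => mem_cent.2 fun b hb => hBD b hb d hd
      by_cases h3 : p ^ 3 ≤ Nat.card (B ⊔ D : Subgroup G)
      · rw [hsub _ B hA h3 le_sup_left hB.2.1, hsub _ D hA h3 le_sup_right hD.2.1]
      · have h1 : B = B ⊔ D := by
          by_contra h1
          exact h3 (pow_succ_le_card_of_lt (abelem_pgroup hA) (lt_of_le_of_ne le_sup_left h1) hB.2.1)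
        have h2 : D = B ⊔ D := by
          by_contra h1
          exact h3 (pow_succ_le_card_of_lt (abelem_pgroup hA) (lt_of_le_of_ne le_sup_right h1) hD.2.1)
        rw [h1, ← h2]
  obtain ⟨A, hA, h3, haA⟩ := exists_abelem_ge (E := Subgroup.zpowers a) (k := 2)
    (abelem_zpowers (p := p) (by rw [← ha, pow_orderOf_eq_one])) (by rwa [cent_zpowers])
  have hv : ∀ A : Subgroup G, IsElementaryAbelian p A → p ^ 3 ≤ Nat.card A →
      IsRankGraphVertex p 2 A := fun A hA h3 =>
    ⟨hA, (Nat.pow_le_pow_right hp.out.pos (by norm_num)).trans h3,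
      not_pRankLE_of_le hA (abelian_le_cent (abelem_abelian hA)) h3⟩
  have hW : signalizerClosure A θ ≤ piCoreOf {p}ᶜ ⊤ := by
    refine pcore_max ((p'groupE hp.out).2 (hc A hA h3).1) ⟨le_top, fun g _ => ?_⟩
    rw [normP, conj_closure g (heq' A hA h3 g)]
    exact hall _ _ (hv _ ((abelemJ g).2 hA) (by rwa [card_conj_smul])) (hv A hA h3)
  rw [p'core_eq_map, ← ppCoreOf, ppCoreOf_top, hO] at hW
  have ha1 : a ≠ 1 := by
    rintro rfl
    exact hp.out.one_lt.ne (orderOf_one.symm.trans ha)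
  exact eq_bot_iff.2 ((le_closure (haA (Subgroup.mem_zpowers a)) ha1).trans hW)

/-- In a `p`-constrained subgroup `H`, the part in `H` of the `p'`-core of the centralizer of a
`p`-element of `H` lies in the `p'`-core of `H`. -/
theorem centralizerPPrimeCore_inf_le {H : Subgroup G} (hc : IsPConstrained p H) {x : G} (hx : x ∈ H)
    (hxp : IsPGroup p (Subgroup.zpowers x)) :
    centralizerPPrimeCore p x ⊓ H ≤ (pPrimeCore p H).map H.subtype := by
  have hp' : IsPGroup p (Subgroup.zpowers (⟨x, hx⟩ : H)) := by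
    rw [← zpowers_subgroupOf]; exact isPGroup_subgroupOf hxp H
  have h1 := qim_le_ppCoreOf_centralizer (p := p) (D := centralizerPPrimeCore p x ⊓ H) inf_le_right
    ⟨x, hx⟩ hp' inf_le_left
  have h2 := Solv.centralizer_pCore_le_centralizer (Solv.isPConstrained_iff_quotient.1 hc)
    (hp'.map (QuotientGroup.mk' (pPrimeCore p H)))
  have h3 := Solv.pPrimeCore_eq_bot_of_centralizer_le h2
  rw [← ppCoreOf_eq_bot_iff, MonoidHom.map_zpowers, cent_zpowers] at h3
  rw [h3, le_bot_iff, qim_eq_bot_iff inf_le_right] at h1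
  exact h1

/-- Triviality of equivariant solvable signalizer functors on a connected rank graph. -/
theorem eq_bot_of_connected_of_solvable [Gate.S0217.{u}] (hO : pPrimeCore p G = ⊥)
    (hconn : IsRankGraphConnected p 2 G) {θ : G → Subgroup G}
    (hC : ∀ a : G, orderOf a = p → ¬ PRankLE p 2 (𝐂₁ a) →
      θ a ≤ 𝐂₁ a ∧ ¬ p ∣ Nat.card (θ a) ∧ Group.IsSolvable (θ a))
    (heq : ∀ a g : G, orderOf a = p → ¬ PRankLE p 2 (𝐂₁ a) → θ (g * a * g⁻¹) = g •ᶜ θ a)
    (hbal : ∀ a b : G, orderOf a = p → ¬ PRankLE p 2 (𝐂₁ a) → orderOf b = p →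
      ¬ PRankLE p 2 (𝐂₁ b) → a * b = b * a → θ a ⊓ 𝐂₁ b ≤ θ b)
    {a : G} (ha : orderOf a = p) (ha3 : ¬ PRankLE p 2 (𝐂₁ a)) : θ a = ⊥ := by
  refine eq_bot_of_connected hO hconn heq (fun A hA h3 => ?_) ha ha3
  have h1 : ∀ a ∈ A, a ≠ 1 → orderOf a = p := fun a => abelem_order_p hA
  have h2 : ∀ a ∈ A, ¬ PRankLE p 2 (𝐂₁ a) := fun a ha =>
    not_pRankLE_of_le hA ((abelian_le_cent (abelem_abelian hA)).trans (cent_le_cent1 ha)) h3
  have hcomm : ∀ a ∈ A, ∀ b ∈ A, a * b = b * a := fun a ha b hb =>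
    abelian_comm (abelem_abelian hA) ha hb
  refine Gate.S0217.out A hcomm hA.2 h3 θ (fun a ha h => (hC a (h1 a ha h) (h2 a ha)).1)
    (fun a ha h => (hC a (h1 a ha h) (h2 a ha)).2.1) (fun a ha h b hb x hx => ?_)
    (fun a ha h => (hC a (h1 a ha h) (h2 a ha)).2.2)
    fun a ha h b hb h' => hbal a b (h1 a ha h) (h2 a ha) (h1 b hb h') (h2 b hb) (hcomm a ha b hb)
  have h4 := heq a b (h1 a ha h) (h2 a ha)
  rw [hcomm b hb a ha, mul_inv_cancel_right] at h4
  rw [h4]
  exact conj_mem_conj_smul b hx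

end Cfsg.Lib.Trans.Sig
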