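import Cfsg.Agent.Trans.KInfLocal
import Cfsg.Agent.Trans.SectionSF
import Cfsg.Agent.Trans.SectionT

/-!
# Control of transfer and strong fusion by the K-infinity subgroups
-/

set_option autoImplicit false

namespace Cfsg.Lib.Trans

open Cfsg
open scoped commutatorElement

universe u

variable {p : ℕ} [Fact p.Prime]

/-- `W` is one of the two K-infinity functors. -/
def IsKInf (W : ∀ (Q : Type u) [Group Q], Subgroup Q) : Prop :=
  @W = @kInfLower.{u} ∨ @W = @kInfUpper.{u}

theorem isKInf_lower : IsKInf.{u} kInfLower := Or.inl rfl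

theorem isKInf_upper : IsKInf.{u} kInfUpper := Or.inr rfl

variable {W : ∀ (Q : Type u) [Group Q], Subgroup Q}

theorem IsKInf.isCharPFunctor (hW : IsKInf W) (p : ℕ) [Fact p.Prime] : IsCharPFunctor.{u} p W := by
  rcases hW with rfl | rfl
  exacts [isCharPFunctor_kInfLower p, isCharPFunctor_kInfUpper p]

theorem IsKInf.center_le (hW : IsKInf W) {G : Type u} [Group G] (S : Subgroup G) :
    S ⊓ Subgroup.centralizer (S : Set G) ≤ inducedFunctor W S := by
  rcases hW with rfl | rfl
  · rw [inducedFunctor_kInfLower]; exact center_le_kLowerIn S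
  · rw [inducedFunctor_kInfUpper]; exact center_le_kUpperIn S

theorem IsKInf.inf_centralizer_le (hW : IsKInf W) {G : Type u} [Group G] [Finite G]
    {S : Subgroup G} (hS : IsPGroup p S) :
    S ⊓ Subgroup.centralizer (inducedFunctor W S : Set G) ≤ inducedFunctor W S := by
  rcases hW with rfl | rfl
  · rw [inducedFunctor_kInfLower]; exact inf_centralizer_kLowerIn_le hS.isNilpotent
  · rw [inducedFunctor_kInfUpper]; exact inf_centralizer_kUpperIn_le hS.isNilpotent

theorem IsKInf.exists_elt (hW : IsKInf W) {G : Type u} [Group G] [Finite G] {S : Subgroup G}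
    (hTS : pCore p G ≤ S) (hK : ¬ (inducedFunctor W S).Normal) :
    ∃ g ∈ S, g ∉ pCore p G ∧ ChiefKilled (pCore p G) (Subgroup.zpowers g) 4 ∧
      ⁅⁅pCore p G ⊓ Subgroup.centralizer (pCore p G : Set G), Subgroup.zpowers g⁆,
        Subgroup.zpowers g⁆ = ⊥ ∧
      (Subgroup.centralizer (pCore p G : Set G) ≤ pCore p G →
        ∃ U V : Subgroup G, IsChiefFactor U V ∧ U ≤ pCore p G ∧
          ⁅⁅U, Subgroup.zpowers g⁆, Subgroup.zpowers g⁆ ≤ V ∧ ¬ ⁅U, Subgroup.zpowers g⁆ ≤ V) := by
  refine kInf_exists_elt hTS ?_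
  rcases hW with rfl | rfl
  · left; rwa [← inducedFunctor_kInfLower]
  · right; rwa [← inducedFunctor_kInfUpper]

theorem IsKInf.normal_of_stable (hW : IsKInf W) {G : Type u} [Group G] [Finite G] (S : Sylow p G)
    (hc : Subgroup.centralizer (pCore p G : Set G) ≤ pCore p G)
    (hst : ∀ (V : Subgroup G) [V.Normal], StableOnNormal p (G ⧸ V)) :
    (inducedFunctor W (S : Subgroup G)).Normal := by
  by_contra hK
  obtain ⟨g, h1, -, -, -, h5⟩ := hW.exists_elt (Solv.pCore_le_sylow S) hK
  obtain ⟨U, V, hUV, hU, h6, h7⟩ := h5 hc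
  have hV := hUV.2.2.1
  exact not_stableOnNormal_of_chief hUV ((Solv.pCore_isPGroup p G).to_le hU)
    (S.isPGroup'.to_le (Subgroup.zpowers_le.mpr h1)) h6 h7 (hst V)

omit [Fact p.Prime] in
theorem singleton_isCharPFunctor (hW : IsCharPFunctor.{u} p W) :
    ∀ V ∈ ({W} : Set (∀ (Q : Type u) [Group Q], Subgroup Q)), IsCharPFunctor.{u} p V := by
  rintro V rfl; exact hW

theorem IsKInf.controlsTransferIn (hW : IsKInf W) (hp : 5 ≤ p) (G : Type u) [Group G] [Finite G] :
    ControlsTransferIn p (inducedFunctor (G := G) W) ⊤ := by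
  have h𝓦 := singleton_isCharPFunctor (hW.isCharPFunctor p)
  rw [t_iff_famT, ← indFam_singleton]
  refine famT_section_of_not_minT (X := G) h𝓦 (fun K R _ S h => ?_) _ (involves_refl G)
  obtain ⟨g, hg, hgQ, h1, -⟩ := hW.exists_elt (Solv.pCore_le_sylow S) (fun hn =>
    h.normalizer_induced_ne_top (W := W) rfl (Subgroup.normalizer_eq_top_iff.mpr hn))
  obtain ⟨U, V, h2, h3, h4⟩ := (minT_structure h𝓦 ⟨W, rfl⟩ h rfl).2 g hg hgQ
  exact h4 (h1.mono le_rfl (by omega) U V h2 h3)

theorem IsKInf.inf_commutator_eq (hW : IsKInf W) (hp : 5 ≤ p) {G : Type u} [Group G] [Finite G]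
    {S : Subgroup G} (hS : IsSylowIn p S ⊤) :
    S ⊓ commutator G = S ⊓ ⁅Subgroup.normalizer (inducedFunctor W S : Set G),
      Subgroup.normalizer (inducedFunctor W S : Set G)⁆ := by
  have h := (t_iff (isConjugacyFunctor_induced (hW.isCharPFunctor p)) hS).mp
    (hW.controlsTransferIn hp G)
  rw [top_inf_eq] at h
  exact le_antisymm (le_inf inf_le_left h)
    (inf_le_inf_left _ (Subgroup.commutator_mono le_top le_top))

/-- A functor which is normal in all constrained sections controls strong fusion. -/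
theorem ctlFus_of_normal_in_constrained (hW : IsCharPFunctor.{u} p W) {G : Type u} [Group G]
    [Finite G] (hloc : ∀ (Y : Type u) [Group Y] [Finite Y], Involves Y G →
      Subgroup.centralizer (pCore p Y : Set Y) ≤ pCore p Y → ∀ T : Sylow p Y,
        (inducedFunctor W (T : Subgroup Y)).Normal) {S : Subgroup G} (hS : IsSylowIn p S ⊤) :
    CtlFus (Subgroup.normalizer (inducedFunctor W S : Set G) : Subgroup G) S ⊤ := by
  have h := famSF_section_of_constrained (X := G) (singleton_isCharPFunctor hW) ?_ G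
    (involves_refl G)
  · rwa [indFam_singleton, ← sf_iff_famSF, sf_iff (isConjugacyFunctor_induced hW) hS,
      top_inf_eq] at h
  · intro K R hR hc
    obtain ⟨T⟩ : Nonempty (Sylow p (K ⧸ R.subgroupOf K)) := inferInstance
    have := hloc _ ⟨K, R, hR, ⟨MulEquiv.refl _⟩⟩ hc T
    rw [indFam_singleton, ← sf_iff_famSF,
      sf_iff (isConjugacyFunctor_induced hW) (isSylowIn_top T), Subgroup.normalizer_eq_top]
    intro A _ g _ hg
    exact Fus.step ⟨trivial, trivial⟩ hg

omit [Fact p.Prime] in
theorem controlsStrongFusion_of_ctlFus {G : Type*} [Group G] (S : Sylow p G) {U : Subgroup G}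
    (hU : U ≤ S) (h : CtlFus (Subgroup.normalizer (U : Set G) : Subgroup G) (S : Subgroup G) ⊤) :
    ControlsStrongFusion p U := by
  rw [ctlFus_subgroup_iff] at h
  refine ⟨S, hU, fun A hA => ⟨hA, fun g hg => ?_⟩⟩
  obtain ⟨x, hx, e⟩ := h A g trivial hA hg
  exact ⟨x, hx, fun a ha => (e a ha).symm⟩

theorem IsKInf.ctlFus (hW : IsKInf W) {G : Type u} [Group G] [Finite G]
    (hst : ∀ (Y : Type u) [Group Y] [Finite Y], Involves Y G → StableOnNormal p Y)
    {S : Subgroup G} (hS : IsSylowIn p S ⊤) :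
    CtlFus (Subgroup.normalizer (inducedFunctor W S : Set G) : Subgroup G) S ⊤ :=
  ctlFus_of_normal_in_constrained (hW.isCharPFunctor p) (fun _ _ _ hY hc T =>
    hW.normal_of_stable T hc fun V _ => hst _ (involves_trans (involves_quotient V) hY)) hS

omit [Fact p.Prime] in
theorem stableOnNormal_of_forall_section {G : Type u} [Group G] [Finite G]
    (hst : ∀ (K R : Subgroup G) [(R.subgroupOf K).Normal],
      IsNormalizerPStable p (K ⧸ R.subgroupOf K)) (Y : Type u) [Group Y] (hY : Involves Y G) :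
    StableOnNormal p Y :=
  of_involves_of_forall_section (fun X _ => StableOnNormal p X) (fun _ _ _ _ _ e h => h.congr e)
    (fun K R _ => stableOnNormal_of_isNormalizerPStable (hst K R)) Y hY

theorem IsKInf.controlsStrongFusion (hW : IsKInf W) {G : Type u} [Group G] [Finite G]
    (hst : ∀ (K R : Subgroup G) [(R.subgroupOf K).Normal],
      IsNormalizerPStable p (K ⧸ R.subgroupOf K)) (S : Sylow p G) :
    ControlsStrongFusion p (inducedFunctor W (S : Subgroup G)) :=
  controlsStrongFusion_of_ctlFus S (inducedFunctor_le _)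
    (hW.ctlFus (fun Y _ _ hY => stableOnNormal_of_forall_section hst Y hY) (isSylowIn_top S))

end Cfsg.Lib.Trans
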