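import Cfsg.Agent.Trans.ThompsonFact

/-!
The characteristic subgroup `W(S)` (stable normal closure of `Ω₁ Z(S)`).
-/

open Pointwise
open scoped commutatorElement

namespace Cfsg.Lib.Trans.TJ

open Cfsg Subgroup Cfsg.Lib.Solv

universe u

variable {p : ℕ}

section Abstract

variable {S S' H : Type u} [Group S] [Group S'] [Group H]

theorem map_omegaCenterThompson_equiv {A B : Type*} [Group A] [Group B] (e : A ≃* B) :
    (omegaCenterThompson p A).map (e : A →* B) = omegaCenterThompson p B := by
  rw [map_omegaCenterThompson e.injective, MonoidHom.range_eq_top_of_surjective _ e.surjective]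
  unfold omegaCenterThompson centerThompsonOf
  rw [J_top]

theorem isStableEmbedding_comp_equiv {τ : S' →* H} (h : IsStableEmbedding p τ) (η : S ≃* S') :
    IsStableEmbedding p (τ.comp (η : S →* S')) := by
  obtain ⟨h1, h2, ⟨P, hP⟩, h4, h5, h6⟩ := h
  refine ⟨h1.comp η.injective, h2, ⟨P, ?_⟩, h4, ?_, ?_⟩
  · rw [hP, MonoidHom.range_comp,
      MonoidHom.range_eq_top_of_surjective (η : S →* S') η.surjective, MonoidHom.range_eq_map]
  · rwa [← Subgroup.map_map, map_thompsonSubgroup_equiv]
  · intro V _ hV
    rw [← Subgroup.map_map, map_omegaCenterThompson_equiv] at hV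
    exact h6 V hV

theorem omegaOne_center_le_stableNormalClosure :
    omegaOne p (center S) ≤ stableNormalClosure p S :=
  le_sInf fun _ hW => hW.1

theorem stableNormalClosure_le {W : Subgroup S} (h1 : omegaOne p (center S) ≤ W)
    (h2 : ∀ (H : Type u) [Group H] (τ : S →* H), IsStableEmbedding p τ → (W.map τ).Normal) :
    stableNormalClosure p S ≤ W := sInf_le ⟨h1, h2⟩

theorem map_stableNormalClosure_le (η : S ≃* S') :
    (stableNormalClosure p S).map (η : S →* S') ≤ stableNormalClosure p S' := by
  refine le_sInf fun W hW => ?_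
  rw [map_le_iff_le_comap]
  apply stableNormalClosure_le
  · rw [← map_le_iff_le_comap]
    refine le_trans ?_ hW.1
    rw [map_omegaOne _ η.injective]
    apply omegaOne_mono
    rintro _ ⟨x, hx, rfl⟩
    rw [mem_center_iff]
    intro y
    obtain ⟨y, rfl⟩ := η.surjective y
    simpa using congrArg η (mem_center_iff.1 hx y)
  · intro H _ τ hτ
    have := hW.2 H _ (isStableEmbedding_comp_equiv hτ η.symm)
    rwa [← Subgroup.map_map, map_equiv_eq_comap_symm] at this

theorem map_stableNormalClosure (η : S ≃* S') :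
    (stableNormalClosure p S).map (η : S →* S') = stableNormalClosure p S' := by
  refine le_antisymm (map_stableNormalClosure_le η) fun x hx => ?_
  exact ⟨η.symm x, map_stableNormalClosure_le η.symm (mem_map_of_mem _ hx), by simp⟩

instance stableNormalClosure_characteristic (p : ℕ) (S : Type u) [Group S] :
    (stableNormalClosure p S).Characteristic :=
  characteristic_iff_map_eq.2 fun e => map_stableNormalClosure e

theorem omegaCenterThompson_eq {A : Type*} [Group A] :
    omegaCenterThompson p A = omegaOne p (centerThompsonOf p (⊤ : Subgroup A)) := by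
  unfold omegaCenterThompson centerThompsonOf
  rw [J_top]

theorem normal_map_omegaCenterThompson {τ : S →* H} (h : IsStableEmbedding p τ) :
    ((omegaCenterThompson p S).map τ).Normal := by
  have h5 := h.2.2.2.2.1
  rw [map_thompsonSubgroup h.1, ← normalizer_eq_top_iff] at h5
  rw [map_omegaCenterThompson h.1, ← normalizer_eq_top_iff, eq_top_iff, ← h5]
  exact normalizer_J_le_normalizer_omegaOne_center_J _

theorem stableNormalClosure_le_omegaCenterThompson [Finite S] :
    stableNormalClosure p S ≤ omegaCenterThompson p S := by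
  refine stableNormalClosure_le ?_ fun H _ τ hτ => normal_map_omegaCenterThompson hτ
  rw [omegaCenterThompson_eq]
  refine le_trans (omegaOne_mono ?_) (omegaOne_center_le_omegaOne_center_J ⊤)
  rw [top_inf_eq, coe_top, centralizer_univ]

theorem normal_map_stableNormalClosure {τ : S →* H} (h : IsStableEmbedding p τ) :
    ((stableNormalClosure p S).map τ).Normal := by
  constructor
  rintro _ ⟨w, hw, rfl⟩ g
  have hw' := mem_sInf.1 hw
  have : Finite H := h.2.1
  have : Finite S := Finite.of_injective τ h.1
  have hW₀ : omegaCenterThompson p S ∈ {W : Subgroup S | omegaOne p (center S) ≤ W ∧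
      ∀ (H : Type u) [Group H] (τ : S →* H), IsStableEmbedding p τ → (W.map τ).Normal} :=
    ⟨omegaOne_center_le_stableNormalClosure.trans stableNormalClosure_le_omegaCenterThompson,
      fun H _ τ hτ => normal_map_omegaCenterThompson hτ⟩
  obtain ⟨w', -, hw'⟩ := (hW₀.2 H τ h).conj_mem _ (mem_map_of_mem τ (hw' _ hW₀)) g
  refine ⟨w', mem_sInf.2 fun W hW => ?_, hw'⟩
  obtain ⟨w'', h1, h2⟩ := (hW.2 H τ h).conj_mem _ (mem_map_of_mem τ (mem_sInf.1 hw _ hW)) g
  rwa [← h.1 (h2.trans hw'.symm)]

end Abstract

section Frattini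

variable {G : Type*} [Group G]

/-- If `D / C` is a normal `p`-subgroup of `G / C` then `G = N(S ∩ D) C`. -/
theorem exists_normalizer_mul_of_isPGroup_map [Finite G] [Fact p.Prime] {C D : Subgroup G}
    [C.Normal] [D.Normal] (hCD : C ≤ D) (h : IsPGroup p (D.map (QuotientGroup.mk' C)))
    (S : Sylow p G) (g : G) :
    ∃ m ∈ normalizer (((S : Subgroup G) ⊓ D : Subgroup G) : Set G), ∃ c ∈ C, g = m * c := by
  obtain ⟨n, hn, k, hk, rfl⟩ := (isSylowIn_inf_of_normal S D).frattini' (g := g)
    (by rw [normalizer_eq_top]; trivial)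
  obtain ⟨s, hs, c, hc, rfl⟩ := exists_mul_of_isPGroup_map h S hk
  have hsD : s ∈ D := (D.mul_mem_cancel_right (hCD hc)).1 hk
  exact ⟨n * s, mul_mem hn (le_normalizer ⟨hs, hsD⟩), c, hc, (mul_assoc _ _ _).symm⟩

theorem exists_normalizer_mul_pCore [Finite G] [Fact p.Prime] (C : Subgroup G) [C.Normal]
    (S : Sylow p G) (g : G) :
    ∃ m ∈ normalizer (((S : Subgroup G) ⊓ (pCore p (G ⧸ C)).comap (QuotientGroup.mk' C) :
      Subgroup G) : Set G), ∃ c ∈ C, g = m * c := by
  apply exists_normalizer_mul_of_isPGroup_map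
  · intro c hc
    rw [mem_comap, QuotientGroup.mk'_apply, (QuotientGroup.eq_one_iff c).2 hc]
    exact one_mem _
  · rw [map_comap_eq_self_of_surjective (QuotientGroup.mk'_surjective C)]
    exact pCore_isPGroup p _

theorem quadratic_conj {V : Subgroup G} {g a : G} (hg : g ∈ normalizer (V : Set G))
    (h : ⁅⁅V, zpowers a⁆, zpowers a⁆ = ⊥) :
    ⁅⁅V, zpowers (g * a * g⁻¹)⁆, zpowers (g * a * g⁻¹)⁆ = ⊥ := by
  have := congrArg (fun K : Subgroup G => MulAut.conj g • K) h
  simpa only [conj_smul_commutator, conj_smul_zpowers, conj_smul_eq_of_mem_normalizer hg,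
    smul_bot] using this

/-- The kernel of the action on `O_p(G) / Φ(O_p(G))` is contained in `O_p(G)` when `O_p(G)` is
self-centralizing. -/
theorem sectionKernel_frattini_isPGroup [Finite G] [Fact p.Prime]
    (hc : centralizer (pCore p G : Set G) ≤ pCore p G) :
    IsPGroup p (sectionKernel (pCore p G) ((frattini (pCore p G)).map (pCore p G).subtype)) := by
  apply isPGroup_of_forall_coprime_eq_one
  intro x hx hxp
  have h1 : zpowers x ≤ centralizer (pCore p G : Set G) := by
    apply Coprime.le_centralizer_of_commutator_le_frattini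
    · rw [normalizer_eq_top]; exact le_top
    · rw [Nat.card_zpowers]
      exact (coprime_card_of_isPGroup ((pCore_isPGroup p G).to_subgroup _) hxp).symm
    · apply commutator_zpowers_right_le (by rw [normalizer_eq_top]; trivial)
      intro v hv
      rw [← QuotientGroup.eq_one_iff]
      change QuotientGroup.mk' _ ⁅v, x⁆ = 1
      rw [map_commutatorElement, commutatorElement_eq_one_iff_mul_comm]
      exact hx _ (mem_map_of_mem _ hv)
  have h2 : x ∈ pCore p G := hc (h1 (mem_zpowers x))
  have := eq_one_of_isPGroup_of_coprime (pCore_isPGroup p G) (g := ⟨x, h2⟩)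
    (by rwa [Subgroup.orderOf_mk])
  exact congrArg Subtype.val this

/-- In a group with self-centralizing `O_p(G)`, acting stably on `O_p(G) / Φ(O_p(G))`, elements
acting quadratically on `O_p(G)` lie in `O_p(G)`. -/
theorem mem_pCore_of_quadratic [Finite G] [Fact p.Prime]
    (hst : IsPStableOnSection p (pCore p G) ((frattini (pCore p G)).map (pCore p G).subtype))
    (hc : centralizer (pCore p G : Set G) ≤ pCore p G) {a : G}
    (ha : ⁅⁅pCore p G, zpowers a⁆, zpowers a⁆ ≤ (frattini (pCore p G)).map (pCore p G).subtype) :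
    a ∈ pCore p G := by
  obtain ⟨D, hD, hle, ⟨k, hk⟩, haD⟩ := hst a ha
  refine le_pCore hD ?_ haD
  obtain ⟨m, hm⟩ := (sectionKernel_frattini_isPGroup hc).exists_card_eq
  exact IsPGroup.of_card (n := m + k) (by rw [← card_mul_relIndex_of_le hle, hm, hk, pow_add])

end Frattini

section Quadratic

variable {S : Type u} [Group S]

theorem stableNormalClosure_commutator_eq_bot_of_quadratic [Finite S] [Fact p.Prime] {x : S}
    (hq : ⁅⁅stableNormalClosure p S, zpowers x⁆, zpowers x⁆ = ⊥) :
    ⁅stableNormalClosure p S, zpowers x⁆ = ⊥ := by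
  set W := stableNormalClosure p S with hW
  let T : Set S := {y | ⁅⁅W, zpowers y⁆, zpowers y⁆ = ⊥}
  have key : W ≤ W ⊓ centralizer T := by
    apply stableNormalClosure_le
    · exact le_inf omegaOne_center_le_stableNormalClosure
        ((omegaOne_le _).trans (center_le_centralizer _))
    · intro H _ τ hτ
      have hVn : (W.map τ).Normal := normal_map_stableNormalClosure hτ
      obtain ⟨hinj, hfin, ⟨P, hP⟩, -, -, hst⟩ := hτ
      have hst' := hst (W.map τ) (map_mono stableNormalClosure_le_omegaCenterThompson)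
      have hT : ∀ y : S, y ∈ T ↔ ⁅⁅W.map τ, zpowers (τ y)⁆, zpowers (τ y)⁆ = ⊥ := by
        intro y
        rw [← MonoidHom.map_zpowers, ← map_commutator, ← map_commutator,
          map_eq_bot_iff_of_injective _ hinj]
        rfl
      constructor
      rintro _ ⟨w, hw, rfl⟩ g
      obtain ⟨m, hm, c, hc, rfl⟩ := exists_normalizer_mul_pCore
        (centralizer ((W.map τ : Subgroup H) : Set H)) P g
      have h1 : m * c * τ w * (m * c)⁻¹ = m * τ w * m⁻¹ := by
        rw [mul_assoc m c, ← hc _ (mem_map_of_mem τ hw.1)]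
        group
      rw [h1]
      obtain ⟨w', hw', h2⟩ := hVn.conj_mem _ (mem_map_of_mem τ hw.1) m
      refine ⟨w', ⟨hw', fun y hy => hinj ?_⟩, h2⟩
      have h3 := inv_conj_mem_of_mem_normalizer hm
        (x := τ y) ⟨hP ▸ ⟨y, rfl⟩, hst' _ ((hT y).1 hy)⟩
      obtain ⟨y', hy'⟩ : m⁻¹ * τ y * m ∈ τ.range := hP ▸ h3.1
      have h4 : y' ∈ T := by
        rw [hT, hy']
        have := quadratic_conj (g := m⁻¹) (by rw [normalizer_eq_top]; trivial) ((hT y).1 hy)
        rwa [inv_inv] at this
      have h5 := congrArg τ (hw.2 y' h4)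
      rw [map_mul, map_mul, hy'] at h5
      rw [map_mul, map_mul, h2]
      calc τ y * (m * τ w * m⁻¹) = m * (m⁻¹ * τ y * m * τ w) * m⁻¹ := by group
        _ = m * (τ w * (m⁻¹ * τ y * m)) * m⁻¹ := by rw [h5]
        _ = _ := by group
  rw [commutator_eq_bot_iff_le_centralizer]
  intro w hw
  rw [mem_centralizer_zpowers_iff]
  exact (key hw).2 x hq

end Quadratic

section Ambient

variable {G G' : Type u} [Group G] [Group G']

/-- `W(P)` for a subgroup `P` of `G`, viewed in `G`. -/
def wOf (p : ℕ) (P : Subgroup G) : Subgroup G := (stableNormalClosure p P).map P.subtype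

theorem wOf_def (p : ℕ) (P : Subgroup G) :
    wOf p P = (stableNormalClosure p P).map P.subtype := rfl

theorem wOf_le (P : Subgroup G) : wOf p P ≤ P := map_subtype_le _

theorem wOf_le_omegaOne_center_J [Finite G] (P : Subgroup G) :
    wOf p P ≤ omegaOne p (centerThompsonOf p P) := by
  rw [← map_subtype_omegaCenterThompson]
  exact map_mono stableNormalClosure_le_omegaCenterThompson

theorem omegaOne_center_le_wOf (P : Subgroup G) :
    omegaOne p (P ⊓ centralizer (P : Set G)) ≤ wOf p P := by
  rw [← map_subtype_center, ← map_omegaOne _ P.subtype_injective]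
  exact map_mono omegaOne_center_le_stableNormalClosure

theorem ea_wOf [Finite G] (P : Subgroup G) : IsElementaryAbelian p (wOf p P) :=
  ea_mono (ea_omegaOne_center_J P) (wOf_le_omegaOne_center_J P)

theorem wOf_ne_bot [Finite G] [Fact p.Prime] {P : Subgroup G} (hP : IsPGroup p P) (h : P ≠ ⊥) :
    wOf p P ≠ ⊥ := by
  intro h0
  have h1 : P ⊓ centralizer (P : Set G) ≠ ⊥ := by
    rw [← map_subtype_center, Ne, map_eq_bot_iff_of_injective _ P.subtype_injective]
    have := (P.nontrivial_iff_ne_bot).2 h
    exact hP.bot_lt_center.ne'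
  exact omegaOne_ne_bot hP.to_inf_left h1 (eq_bot_iff.2 (h0 ▸ omegaOne_center_le_wOf P))

theorem normalizer_le_normalizer_wOf (P : Subgroup G) :
    normalizer (P : Set G) ≤ normalizer (wOf p P : Set G) :=
  normalizer_le_normalizer_map_subtype_of_char _

theorem map_wOf_of_injOn (P : Subgroup G) {f : G →* G'} (hf : P ⊓ f.ker = ⊥) :
    (wOf p P).map f = wOf p (P.map f) := by
  have hinj : Function.Injective (f.subgroupMap P) := by
    rw [injective_iff_map_eq_one]
    intro x hx
    have : (x : G) ∈ P ⊓ f.ker := mem_inf.2 ⟨x.2, congrArg Subtype.val hx⟩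
    rw [hf, mem_bot] at this
    exact Subtype.ext this
  let η : P ≃* P.map f := MulEquiv.ofBijective _ ⟨hinj, f.subgroupMap_surjective P⟩
  rw [wOf_def, wOf_def, ← map_stableNormalClosure η, Subgroup.map_map, Subgroup.map_map]
  rfl

theorem wOf_commutator_eq_bot_of_quadratic [Finite G] [Fact p.Prime] {P : Subgroup G} {x : G}
    (hx : x ∈ P) (hq : ⁅⁅wOf p P, zpowers x⁆, zpowers x⁆ = ⊥) : ⁅wOf p P, zpowers x⁆ = ⊥ := by
  have h1 : zpowers x = (zpowers (⟨x, hx⟩ : P)).map P.subtype := by
    rw [MonoidHom.map_zpowers]; rfl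
  rw [h1, wOf_def, ← map_commutator] at hq ⊢
  rw [← map_commutator, map_eq_bot_iff_of_injective _ P.subtype_injective] at hq
  rw [stableNormalClosure_commutator_eq_bot_of_quadratic hq, Subgroup.map_bot]

theorem normalizer_J_le_normalizer_wOf [Finite G] [Fact p.Prime] (hst : IsActionPStable p G)
    (hc : centralizer (pCore p G : Set G) ≤ pCore p G) (S : Sylow p G) :
    normalizer (thompsonSubgroupOf p (S : Subgroup G) : Set G) ≤
      normalizer (wOf p (S : Subgroup G) : Set G) := by
  set N := normalizer (thompsonSubgroupOf p (S : Subgroup G) : Set G) with hN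
  have hSN : (S : Subgroup G) ≤ N := le_normalizer_J _
  have hτ : IsStableEmbedding p (inclusion hSN) := by
    refine ⟨inclusion_injective hSN, inferInstance, ⟨S.subtype hSN, ?_⟩,
      centralizer_pCore_le_normalizer hc (S.2.to_le (J_le _)), ?_, ?_⟩
    · rw [inclusion_range, Sylow.coe_subtype]
    · rw [map_thompsonSubgroup (inclusion_injective hSN), inclusion_range, J_subgroupOf hSN]
      exact normal_in_normalizer
    · intro V _ hV
      refine hst.2.2 S V ((map_mono hV).trans ?_)
      rw [Subgroup.map_map]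
      rfl
  have := normal_map_stableNormalClosure hτ
  have h2 := le_normalizer_map_subtype
    ((stableNormalClosure p (S : Subgroup G)).map (inclusion hSN))
  rwa [Subgroup.map_map] at h2

/-- The analogue of the `ZJ`-theorem for `W(S)`. -/
theorem wOf_normal [Finite G] [Fact p.Prime] (hst : IsActionPStable p G)
    (hc : centralizer (pCore p G : Set G) ≤ pCore p G) (S : Sylow p G) :
    (wOf p (S : Subgroup G)).Normal := by
  set W := wOf p (S : Subgroup G) with hW
  have hWea : IsElementaryAbelian p W := ea_wOf _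
  have hSW : (S : Subgroup G) ≤ normalizer (W : Set G) :=
    le_normalizer.trans (normalizer_le_normalizer_wOf _)
  have hOW : pCore p G ≤ normalizer (W : Set G) := (pCore_le_sylow S).trans hSW
  have hWO : W ≤ pCore p G := by
    intro a ha
    apply mem_pCore_of_quadratic hst.2.1 hc
    have h1 : ⁅pCore p G, zpowers a⁆ ≤ W :=
      (commutator_mono le_rfl (zpowers_le.2 ha)).trans (commutator_le_right_of_le_normalizer hOW)
    exact ((commutator_mono h1 (zpowers_le.2 ha)).trans (ea_commutator_self hWea).le).trans bot_le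
  have hgO : ∀ g : G, MulAut.conj g • W ≤ pCore p G := fun g =>
    conj_smul_le_iff.2 fun x hx => (inferInstance : (pCore p G).Normal).conj_mem x (hWO hx) g
  have hcomm : ∀ g : G, MulAut.conj g • W ≤ centralizer (W : Set G) := by
    intro g y hy
    have hn : W ≤ normalizer ((MulAut.conj g • W : Subgroup G) : Set G) := by
      rw [← conj_smul_normalizer, le_conj_smul_iff]
      intro x hx
      apply hOW
      have := (inferInstance : (pCore p G).Normal).conj_mem x (hWO hx) g⁻¹
      rwa [inv_inv] at this
    have h1 : ⁅W, zpowers y⁆ ≤ MulAut.conj g • W :=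
      (commutator_mono le_rfl (zpowers_le.2 hy)).trans (commutator_le_right_of_le_normalizer hn)
    have h2 := wOf_commutator_eq_bot_of_quadratic (pCore_le_sylow S (hgO g hy))
      (eq_bot_iff.2 ((commutator_mono h1 (zpowers_le.2 hy)).trans
        (ea_commutator_self (ea_conj_smul hWea g)).le))
    exact commutator_eq_bot_iff_le_centralizer'.1 h2 (mem_zpowers y)
  set V : Subgroup G := ⨆ g : G, MulAut.conj g • W with hV
  have hgV : ∀ g : G, MulAut.conj g • W ≤ V := fun g => le_iSup (fun g : G => MulAut.conj g • W) g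
  have hWV : W ≤ V := (conj_one_smul W).ge.trans (hgV 1)
  have hVn : V.Normal := by
    rw [← normalizer_eq_top_iff, eq_top_iff]
    intro g _
    apply mem_normalizer_of_conj_mem
    rw [← conj_smul_le_iff, hV, conj_smul_iSup, iSup_le_iff]
    intro h
    rw [← conj_mul_smul]
    exact hgV _
  have hVea : IsElementaryAbelian p V := by
    refine ea_iSup (fun g => ea_conj_smul hWea g) fun g h => ?_
    rw [← conj_smul_centralizer, ← conj_smul_conj_inv_smul h (MulAut.conj g • W), ← conj_mul_smul h⁻¹]
    exact conj_smul_mono h (hcomm _)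
  have hVS : V ≤ S := (iSup_le hgO).trans (pCore_le_sylow S)
  by_cases hJ : thompsonSubgroupOf p (S : Subgroup G) ≤ centralizer (V : Set G)
  · rw [← normalizer_eq_top_iff, eq_top_iff]
    intro g _
    obtain ⟨c, hc', n, hn, rfl⟩ := exists_mul_normalizer_J S hJ g
    exact mul_mem (centralizer_le_normalizer _ (centralizer_anti hWV hc'))
      (normalizer_J_le_normalizer_wOf hst hc S hn)
  · exfalso
    rw [J_le_iff] at hJ
    push Not at hJ
    obtain ⟨A, hA, hAV⟩ := hJ
    obtain ⟨h1, h2, h3⟩ := hA.replacement hVea hVS (by rw [normalizer_eq_top]; exact le_top)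
    replace h3 := h3 fun h => hAV (commutator_eq_bot_iff_le_centralizer'.1 h)
    generalize ⁅V, A⁆ ⊔ (A ⊓ centralizer ((⁅V, A⁆ : Subgroup G) : Set G)) = B at h1 h2 h3
    apply h3
    set R := (S : Subgroup G) ⊓
      (pCore p (G ⧸ centralizer (V : Set G))).comap (QuotientGroup.mk' _) with hR
    have hBR : B ≤ R := by
      refine le_inf h1.le fun b hb => hst.1 V hVea b (eq_bot_iff.2 ?_)
      exact (commutator_mono (commutator_mono le_rfl (zpowers_le.2 hb)) (zpowers_le.2 hb)).trans h2.le
    have hWR : W ≤ centralizer (thompsonSubgroupOf p R : Set G) :=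
      (((wOf_le_omegaOne_center_J _).trans (omegaOne_le _)).trans inf_le_right).trans
        (centralizer_anti (J_le_J_of_maxEA_le h1 hBR inf_le_left))
    rw [commutator_eq_bot_iff_le_centralizer]
    refine le_trans (iSup_le fun g => ?_) (centralizer_anti (h1.of_le hBR inf_le_left).le_J)
    obtain ⟨m, hm, c, hc', rfl⟩ := exists_normalizer_mul_pCore (centralizer (V : Set G)) S g
    rw [conj_mul_smul, conj_smul_eq_of_mem_normalizer
      (centralizer_le_normalizer _ (centralizer_anti hWV hc')), conj_smul_le_iff]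
    intro x hx
    exact conj_mem_of_mem_normalizer
      (Solv.normalizer_le_normalizer_centralizer _ (normalizer_le_normalizer_J _ hm)) (hWR hx)

end Ambient

end Cfsg.Lib.Trans.TJ
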