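import Cfsg.Agent.Trans.Radical
import Cfsg.Agent.Trans.ZJFusion
import Cfsg.Agent.Trans.QdFree

/-!
Groups all of whose sections are `p`-stable (`p` odd): the largest subgroup of a Sylow subgroup
whose normalizer controls strong fusion is radical, in particular centric.
-/

set_option autoImplicit false

namespace Cfsg.Lib.Trans

open scoped commutatorElement

universe u

variable {p : ℕ}

section
variable {G : Type*} [Group G]

theorem CtlFus.trans {E : Set G} {X S H : Subgroup G} (h1 : CtlFus (X : Set G) S H)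
    (h2 : CtlFus E S X) : CtlFus E S H := fun A hA g hg hgA =>
  (h1 A hA g hg hgA).bind (fun B x hB hx hxB => h2 B hB x hx hxB) hA

/-- Transport of control of fusion from a subgroup, seen as a group, to the ambient group. -/
theorem CtlFus.normalizer_of_subtype {H : Subgroup G} {W S : Subgroup H}
    (h : CtlFus (Subgroup.normalizer (W : Set H) : Subgroup H) S ⊤) :
    CtlFus (H ⊓ Subgroup.normalizer ((W.map H.subtype : Subgroup G) : Set G) : Subgroup G)
      (S.map H.subtype) H := by
  have h1 := h.map H.subtype H.subtype_injective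
  rw [← MonoidHom.range_eq_map, Subgroup.range_subtype] at h1
  refine h1.mono ?_
  rintro _ ⟨x, hx, rfl⟩
  exact ⟨x.2, Subgroup.le_normalizer_map H.subtype ⟨x, hx, rfl⟩⟩

theorem SClosedIn.comap {G' : Type*} [Group G'] (f : G →* G') {V : Subgroup G'} {S H : Subgroup G}
    (h : SClosedIn V (S.map f) (H.map f)) : SClosedIn (V.comap f) S H := by
  intro v hv g hg hgv
  rw [Subgroup.mem_comap, map_mul, map_mul, map_inv]
  refine h _ hv _ ⟨g, hg, rfl⟩ ⟨_, hgv, ?_⟩
  rw [map_mul, map_mul, map_inv]

theorem sClosedIn_of_le_normalizer {V S H : Subgroup G}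
    (h : H ≤ Subgroup.normalizer (V : Set G)) : SClosedIn V S H :=
  fun v hv g hg _ => (Subgroup.mem_normalizer_iff.mp (h hg) v).mp hv

variable [Finite G] [Fact p.Prime]

/-- Strong closure with respect to a normal subgroup, plus invariance under the normalizer of the
Sylow subgroup of that normal subgroup. -/
theorem SClosedIn.of_normal {V S K : Subgroup G} [K.Normal] (hS : IsSylowIn p S ⊤)
    (hV : V ≤ K) (h : SClosedIn V (S ⊓ K) K)
    (hN : Subgroup.normalizer ((S ⊓ K : Subgroup G) : Set G) ≤ Subgroup.normalizer (V : Set G)) :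
    SClosedIn V S ⊤ := by
  intro v hv g _ hg
  have hT := hS.inf_normal_of_le (N := K) (by rw [Subgroup.normalizer_eq_top]) le_top
  obtain ⟨k, hk, m, hm, rfl⟩ := hT.frattini (g := g) (by rw [Subgroup.normalizer_eq_top]; trivial)
  have h7 := (Subgroup.mem_normalizer_iff.mp (hN hm) v).mp hv
  have e : k * m * v * (k * m)⁻¹ = k * (m * v * m⁻¹) * k⁻¹ := by group
  rw [e] at hg ⊢
  exact h _ h7 k hk ⟨hg, K.mul_mem (K.mul_mem hk (hV h7)) (K.inv_mem hk)⟩

/-- If the elements of `K` are products of elements of the `p`-group `S` and elements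
centralizing `V`, then `K` stabilizes the chain `[V, K; i]`. -/
theorem exists_iterCommutator_eq_bot_of_mul {V S K : Subgroup G} (hS : IsPGroup p S)
    (hV : IsPGroup p V) (hSV : S ≤ Subgroup.normalizer (V : Set G))
    (hK : ∀ k ∈ K, ∃ s ∈ S, ∃ c ∈ Subgroup.centralizer (V : Set G), k = s * c) :
    ∃ n, iterCommutator V K n = ⊥ := by
  obtain ⟨n, hn⟩ := IsPGroup.iff_card.mp hV
  refine ⟨n, eq_bot_iff.mpr ?_⟩
  rw [← Solv.PG.iterCommutator_eq_bot_of_card_le hS hV hSV hn.le]
  clear hn
  induction n with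
  | zero => exact le_rfl
  | succ n ih =>
    refine Subgroup.commutator_le.mpr fun a ha k hk => ?_
    obtain ⟨s, hs, c, hc, rfl⟩ := hK k hk
    have ha' : a ∈ V := Solv.PG.iterCommutator_antitone hSV (Nat.zero_le n) (ih ha)
    have h1 := Subgroup.mem_centralizer_iff.mp hc _ (V.inv_mem ha')
    have e : ⁅a, s * c⁆ = ⁅a, s⁆ := by
      rw [commutatorElement_def, commutatorElement_def, mul_inv_rev]
      calc a * (s * c) * a⁻¹ * (c⁻¹ * s⁻¹) = a * s * (c * a⁻¹) * c⁻¹ * s⁻¹ := by group
        _ = _ := by rw [← h1]; group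
    rw [e]
    exact Subgroup.commutator_mem_commutator (ih ha) hs

end

variable [Fact p.Prime] {n : ℕ} {G : Type u} [Group G] [Finite G]

theorem zj_ctlFus_in (hp : p ≠ 2) (hn : n = 0 ∨ n = p)
    (hst : ∀ (Y : Type u) [Group Y] [Finite Y], Involves Y G → StableOnNormal p Y)
    {S H : Subgroup G} (hS : IsSylowIn p S H) :
    CtlFus (H ⊓ Subgroup.normalizer (centerThompsonOf n S : Set G) : Subgroup G) S H := by
  have h := (zj_ctlFus hp hn (G := H)
    (fun Y _ _ hY => hst Y (involves_trans hY (involves_subgroup H))) hS.subgroupOf_top).normalizer_of_subtype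
  rwa [map_centerThompsonOf n _ H.subtype_injective, Subgroup.subgroupOf_map_subtype,
    inf_of_le_left hS.le] at h

/-- `Z(J(S ∩ K))` is strongly closed in `S` for a normal subgroup `K`. -/
theorem zj_sClosedIn_of_normal (hp : p ≠ 2) (hn : n = 0 ∨ n = p)
    (hst : ∀ (Y : Type u) [Group Y] [Finite Y], Involves Y G → StableOnNormal p Y)
    {S : Subgroup G} (hS : IsSylowIn p S ⊤) (K : Subgroup G) [K.Normal] :
    SClosedIn (centerThompsonOf n (S ⊓ K)) S ⊤ :=
  SClosedIn.of_normal hS ((centerThompsonOf_le _ _).trans inf_le_right)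
    ((zj_ctlFus_in hp hn hst (hS.inf_normal_of_le (N := K) (by rw [Subgroup.normalizer_eq_top])
      le_top)).sClosedIn (centerThompsonOf_le _ _) inf_le_right)
    (normalizer_le_normalizer_centerThompsonOf _ _)

/-- A normal `p`-subgroup that is not radical has a proper overgroup controlling strong fusion. -/
theorem exists_lt_ctlFus_of_normal (hp : p ≠ 2)
    (hst : ∀ (Y : Type u) [Group Y] [Finite Y], Involves Y G → StableOnNormal p Y)
    {S V K : Subgroup G} (hS : IsSylowIn p S ⊤) [V.Normal] [K.Normal] (hV : V ≤ S)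
    (hK : ∀ x ∈ K, (orderOf x).Coprime p → x ∈ Subgroup.centralizer (V : Set G))
    (h : ¬ S ⊓ K ≤ V) :
    ∃ W, V < W ∧ W ≤ S ∧ CtlFus (Subgroup.normalizer (W : Set G) : Subgroup G) S ⊤ := by
  let f := QuotientGroup.mk' V
  have hf : Function.Surjective f := QuotientGroup.mk'_surjective V
  have hS' : IsSylowIn p (S.map f) ⊤ := by
    have := hS.map f
    rwa [Subgroup.map_top_of_surjective _ hf] at this
  have : (K.map f).Normal := Subgroup.Normal.map inferInstance f hf
  set Z := centerThompsonOf 0 (S.map f ⊓ K.map f) with hZ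
  have hZle : Z ≤ S.map f ⊓ K.map f := centerThompsonOf_le _ _
  have h1 : SClosedIn Z (S.map f) ((⊤ : Subgroup G).map f) := by
    rw [Subgroup.map_top_of_surjective _ hf]
    exact zj_sClosedIn_of_normal hp (Or.inl rfl)
      (fun Y _ _ hY => hst Y (involves_trans hY (involves_quotient V))) hS' _
  have hVW : V ≤ Z.comap f := fun v hv => by
    rw [Subgroup.mem_comap, show f v = 1 from (QuotientGroup.eq_one_iff v).mpr hv]
    exact Z.one_mem
  have hWS : Z.comap f ≤ S := by
    refine (Subgroup.comap_mono (hZle.trans inf_le_left)).trans ?_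
    rw [Subgroup.comap_map_eq, QuotientGroup.ker_mk']
    exact sup_le le_rfl hV
  have hWK : Z.comap f ≤ K ⊔ V := by
    refine (Subgroup.comap_mono (hZle.trans inf_le_right)).trans ?_
    rw [Subgroup.comap_map_eq, QuotientGroup.ker_mk']
  obtain ⟨m, hm⟩ := exists_iterCommutator_eq_bot_of_mul (K := K ⊔ V) hS.isPGroup
    (hS.isPGroup.to_le hV) (by rw [Subgroup.normalizer_eq_top]; exact le_top) (by
      intro x hx
      obtain ⟨v, hv, k, hk, rfl⟩ := Subgroup.mem_sup_of_normal_left.mp (sup_comm K V ▸ hx)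
      obtain ⟨t, ht, c, hc, -, rfl⟩ := (hS.inf_normal_of_le (N := K)
        (by rw [Subgroup.normalizer_eq_top]) le_top).exists_mul_eq hK hk
      exact ⟨v * t, S.mul_mem (hV hv) ht.1, c, hc, by rw [mul_assoc]⟩)
  refine ⟨Z.comap f, lt_of_le_of_ne hVW fun e => ?_, hWS, ?_⟩
  · refine centerThompsonOf_ne_bot (p := p) (Or.inl rfl) hS'.isPGroup.to_inf_left (fun h2 => h ?_)
      (?_ : Z = ⊥)
    · rw [← QuotientGroup.ker_mk' V, ← Subgroup.map_eq_bot_iff, eq_bot_iff, ← h2]
      exact Subgroup.map_inf_le _ _ _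
    · rw [← Subgroup.map_comap_eq_self_of_surjective hf Z, ← e, Subgroup.map_eq_bot_iff,
        QuotientGroup.ker_mk']
  · have hN : ∀ i, (iterCommutator V (K ⊔ V) i).Normal := by
      intro i
      induction i with
      | zero => assumption
      | succ i ih => exact Subgroup.commutator_normal _ _
    have := ctlFus_normalizer_of_chain hS hWS
      (fun i => Nat.rec (Z.comap f) (fun i _ => iterCommutator V (K ⊔ V) i) i) rfl (n := m + 1) hm
      ?_ ?_
    · rwa [top_inf_eq] at this
    · rintro (_ | i)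
      · exact h1.comap f
      · have := hN i
        exact sClosedIn_of_le_normalizer (by rw [Subgroup.normalizer_eq_top])
    · rintro (_ | i)
      · refine Subgroup.commutator_le.mpr fun a ha b hb => ?_
        change ⁅a, b⁆ ∈ V
        rw [← QuotientGroup.ker_mk' V, MonoidHom.mem_ker, map_commutatorElement,
          commutatorElement_eq_one_iff_commute]
        exact centerThompsonOf_comm _ _ ha hb
      · exact Subgroup.commutator_mono le_rfl hWK

/-- There is a radical subgroup whose normalizer controls strong fusion. -/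
theorem exists_radicalIn_ctlFus (hp : p ≠ 2)
    (hst : ∀ (Y : Type u) [Group Y] [Finite Y], Involves Y G → StableOnNormal p Y)
    {S : Subgroup G} (hS : IsSylowIn p S ⊤) :
    ∃ V ≤ S, S ≤ Subgroup.normalizer (V : Set G) ∧ RadicalIn p S ⊤ V ∧
      CtlFus (Subgroup.normalizer (V : Set G) : Subgroup G) S ⊤ := by
  obtain ⟨V, ⟨hV, hc⟩, hmax⟩ := WellFounded.has_min (wellFounded_gt (α := Subgroup G))
    {V : Subgroup G | V ≤ S ∧ CtlFus (Subgroup.normalizer (V : Set G) : Subgroup G) S ⊤}
    ⟨⊥, bot_le, fun A _ g _ hg => Fus.step (by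
      rw [Subgroup.normalizer_eq_top]; trivial) hg⟩
  have hSN : S ≤ Subgroup.normalizer (V : Set G) := fun s hs => mem_normalizer_of_cj_le
    ((hc.sClosedIn hV le_rfl).cj_le le_rfl trivial (cj_le_of_mem_of_le hs hV))
  refine ⟨V, hV, hSN, fun K hK hKn hKc => ?_, hc⟩
  rw [top_inf_eq] at hK hKn
  set N := Subgroup.normalizer (V : Set G) with hN
  have hVN : V ≤ N := Subgroup.le_normalizer
  have : (K.subgroupOf N).Normal := (Subgroup.normal_subgroupOf_iff_le_normalizer hK).mpr hKn
  by_contra h
  obtain ⟨W, hVW, hWS, hW⟩ := exists_lt_ctlFus_of_normal (G := N) hp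
    (fun Y _ _ hY => hst Y (involves_trans hY (involves_subgroup N)))
    (hS.mono hSN le_top).subgroupOf_top (V := V.subgroupOf N) (K := K.subgroupOf N)
    (Subgroup.comap_mono hV)
    (fun x hx hcop => Subgroup.mem_centralizer_iff.mpr fun v hv => Subtype.ext
      (Subgroup.mem_centralizer_iff.mp (hKc x hx (by rwa [Subgroup.orderOf_coe])) v hv))
    (fun h1 => h fun x hx => h1 (show (⟨x, hK hx.2⟩ : N) ∈ _ from hx))
  have h2 := hW.normalizer_of_subtype
  rw [Subgroup.subgroupOf_map_subtype, inf_of_le_left hSN] at h2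
  refine hmax (W.map N.subtype) ⟨?_, (hc.trans h2).mono fun x hx => hx.2⟩ ?_
  · refine (Subgroup.map_mono hWS).trans ?_
    rw [Subgroup.subgroupOf_map_subtype]
    exact inf_le_left
  · have := (Subgroup.map_lt_map_iff_of_injective N.subtype_injective).mpr hVW
    rwa [Subgroup.subgroupOf_map_subtype, inf_of_le_left hVN] at this

omit [Finite G] in
theorem stableOnNormal_of_not_involves_qd (hp : p ≠ 2) (h : ¬ Involves (qd p) G) (Y : Type u)
    [Group Y] [Finite Y] (hY : Involves Y G) : StableOnNormal p Y :=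
  stableOnNormal_of_isNormalizerPStable
    (Qd.isNormalizerPStable_of_not_involves hp fun h1 => h (involves_trans h1 hY))

/-- A section `Qd(p)` gives a section `SL₂(p)` of an automizer. -/
theorem exists_automizer_section_of_involves_qd {G : Type*} [Group G] [Finite G]
    (h : Involves (qd p) G) : ∃ (Q M : Subgroup G)
      (ψ : M →* Matrix.SpecialLinearGroup (Fin 2) (ZMod p)), IsPGroup p Q ∧
      M ≤ Subgroup.normalizer (Q : Set G) ∧ Function.Surjective ψ ∧
      ∀ m : M, (m : G) ∈ Subgroup.centralizer (Q : Set G) → ψ m = 1 := by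
  rw [Qd.qd_eq] at h
  obtain ⟨K, f, hf⟩ := involves_iff_exists_surjective.mp h
  set A := (Qd.qdLin (ZMod p)).ker with hA
  obtain ⟨T, hT⟩ := exists_isSylowIn (p := p) (A.comap f)
  have hTA : T.map f = A := by
    have h1 := hT.map f
    rw [Subgroup.map_comap_eq_self_of_surjective hf] at h1
    exact (h1.eq_of_le (fun x => ⟨1, Subtype.ext (by
      rw [pow_one]; exact Qd.pow_char_of_mem_ker p x.2)⟩) h1.le le_rfl).symm
  let M := Subgroup.normalizer (T : Set K)
  let e := Subgroup.equivMapOfInjective M K.subtype K.subtype_injective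
  refine ⟨T.map K.subtype, M.map K.subtype,
    ((Qd.qdLin (ZMod p)).comp (f.comp M.subtype)).comp e.symm.toMonoidHom, hT.isPGroup.map _,
    Subgroup.le_normalizer_map _, fun g => ?_, fun m hm => ?_⟩
  · obtain ⟨x, rfl⟩ := Qd.qdLin_surjective g
    obtain ⟨x, rfl⟩ := hf x
    obtain ⟨k, hk, m, hm, rfl⟩ := hT.frattini (g := x) (by
      rw [Subgroup.normalizer_eq_top]; trivial)
    refine ⟨e ⟨m, hm⟩, ?_⟩
    simp only [MonoidHom.comp_apply, MulEquiv.coe_toMonoidHom, MulEquiv.symm_apply_apply,
      Subgroup.coe_subtype, map_mul]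
    rw [show Qd.qdLin (ZMod p) (f k) = 1 from hk, one_mul]
  · obtain ⟨m, rfl⟩ := e.surjective m
    simp only [MonoidHom.comp_apply, MulEquiv.coe_toMonoidHom, MulEquiv.symm_apply_apply,
      Subgroup.coe_subtype]
    change f m ∈ A
    rw [hA, ← Qd.centralizer_ker_qdLin, ← hA, ← hTA, Subgroup.mem_centralizer_iff]
    rintro _ ⟨t, ht, rfl⟩
    rw [← map_mul, ← map_mul]
    exact congrArg f (Subtype.ext (Subgroup.mem_centralizer_iff.mp hm _ ⟨t, ht, rfl⟩))

end Cfsg.Lib.Trans
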