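import Cfsg.Agent.Trans.SmallOrderAction
import Cfsg.Agent.Solv.CoprimeAbelian

/-!
# The Hall-Higman reduction for a minimal non-trivial coprime action
-/

set_option autoImplicit false

namespace Cfsg.Lib.Trans

open Cfsg Cfsg.Lib.Solv Subgroup
open scoped Pointwise commutatorElement IsMulCommutative

variable {G : Type*} [Group G] [Finite G]

/-- For a coprime action, `C_K(A) ∩ [K, A] ≤ K'`. -/
theorem inf_centralizer_inf_commutator_le {K A : Subgroup G} (hAK : A ≤ normalizer (K : Set G))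
    (hcop : (Nat.card A).Coprime (Nat.card K)) :
    K ⊓ centralizer (A : Set G) ⊓ ⁅K, A⁆ ≤ ⁅K, K⁆ := by
  set N := normalizer (K : Set G)
  have hKN : K ≤ N := le_normalizer
  set F := ⁅K.subgroupOf N, K.subgroupOf N⁆
  let f := QuotientGroup.mk' F
  have hc : IsMulCommutative ((K.subgroupOf N).map f) := by
    rw [← le_centralizer_iff_isMulCommutative, ← commutator_eq_bot_iff_le_centralizer,
      ← map_commutator, Subgroup.map_eq_bot_iff, QuotientGroup.ker_mk']
  have hn : ((K.subgroupOf N).map f).Normal :=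
    Normal.map inferInstance f (QuotientGroup.mk'_surjective F)
  have h1 := Coprime.centralizer_inf_commutator_eq_bot (A := (A.subgroupOf N).map f)
    (V := (K.subgroupOf N).map f) (le_top.trans (normalizer_eq_top _).ge)
    (Nat.Coprime.coprime_dvd_left ((Subgroup.card_map_dvd _ _).trans (SZ.card_subgroupOf_dvd A N))
      (Nat.Coprime.coprime_dvd_right ((Subgroup.card_map_dvd _ _).trans (SZ.card_subgroupOf_dvd K N)) hcop))
  have e : ∀ B : Subgroup G, B ≤ N → ⁅K, B⁆ = ⁅K.subgroupOf N, B.subgroupOf N⁆.map N.subtype := by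
    intro B hB
    rw [map_commutator, subgroupOf_map_subtype, subgroupOf_map_subtype, inf_eq_left.mpr hKN,
      inf_eq_left.mpr hB]
  rintro x ⟨⟨hx1, hx2⟩, hx3⟩
  rw [e A hAK] at hx3
  obtain ⟨y, hy, rfl⟩ := hx3
  rw [e K hKN]
  apply mem_map_of_mem
  have h2 : f y ∈ ((K.subgroupOf N).map f ⊓ centralizer ((A.subgroupOf N).map f : Set (N ⧸ F))) ⊓
      ⁅(K.subgroupOf N).map f, (A.subgroupOf N).map f⁆ := by
    refine ⟨⟨mem_map_of_mem f hx1, ?_⟩, by rw [← map_commutator]; exact mem_map_of_mem f hy⟩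
    rintro _ ⟨a, ha, rfl⟩
    rw [← map_mul, ← map_mul]
    exact congrArg f (Subtype.ext (hx2 a ha))
  rw [h1, mem_bot] at h2
  exact (QuotientGroup.eq_one_iff y).mp h2

variable {p : ℕ} [hp : Fact p.Prime]

/-- If `Q = [Q, A]` and `Φ(Q)` is centralized by `Q` and `A` then `Q` has exponent `p`
(or dividing `4`). -/
theorem small_exponent_of_commutator_eq {Q A : Subgroup G} (hQ : IsPGroup p Q)
    (hAQ : A ≤ normalizer (Q : Set G)) (h1 : ⁅Q, A⁆ = Q)
    (h3 : (frattini Q).map Q.subtype ≤ centralizer (Q : Set G))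
    (h2 : A ≤ centralizer (((frattini Q).map Q.subtype : Subgroup G) : Set G)) :
    ∀ x ∈ Q, x ^ p = 1 ∨ (p = 2 ∧ x ^ 4 = 1) := by
  obtain ⟨q, hq1, hq2, hq3⟩ : ∃ q : ℕ, p ∣ q ∧ p ∣ q.choose 2 ∧ (q = p ∨ (p = 2 ∧ q = 4)) := by
    by_cases h : p = 2
    · exact ⟨4, by rw [h]; norm_num, by rw [h]; decide, Or.inr ⟨h, rfl⟩⟩
    · exact ⟨p, dvd_rfl, hp.out.dvd_choose_self (by norm_num)
        (lt_of_le_of_ne hp.out.two_le (Ne.symm h)), Or.inl rfl⟩
  have hmul : ∀ x ∈ Q, ∀ y ∈ Q, (x * y) ^ q = x ^ q * y ^ q := by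
    intro x hx y hy
    have hc : ⁅y, x⁆ ∈ centralizer (Q : Set G) :=
      h3 (commutator_le_map_frattini hQ (commutator_mem_commutator hy hx))
    have hcx : Commute ⁅y, x⁆ x := (hc x hx).symm
    have hcy : Commute ⁅y, x⁆ y := (hc y hy).symm
    have hpow : ⁅y, x⁆ ^ p = 1 := by
      rw [← commutatorElement_pow_left_of_commute hcy, commutatorElement_eq_one_iff_mul_comm]
      exact (h3 (pow_mem_map_frattini hQ hy) x hx).symm
    obtain ⟨c, hc'⟩ := hq2
    rw [mul_pow_of_commute_commutator hcx hcy, hc', pow_mul, hpow, one_pow, mul_one]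
  let Ω : Subgroup G :=
    { carrier := {x | x ∈ Q ∧ x ^ q = 1}
      one_mem' := ⟨one_mem _, one_pow _⟩
      mul_mem' := fun {x y} hx hy => ⟨mul_mem hx.1 hy.1, by
        rw [hmul x hx.1 y hy.1, hx.2, hy.2, one_mul]⟩
      inv_mem' := fun {x} hx => ⟨inv_mem hx.1, by rw [inv_pow, hx.2, inv_one]⟩ }
  have h4 : Q ≤ Ω := by
    rw [← h1, commutator_le]
    intro x hx a ha
    have hx' : a * x⁻¹ * a⁻¹ ∈ Q := (mem_normalizer_iff.mp (hAQ ha) _).mp (inv_mem hx)
    have e : ⁅x, a⁆ = x * (a * x⁻¹ * a⁻¹) := by rw [commutatorElement_def]; group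
    refine ⟨e ▸ mul_mem hx hx', ?_⟩
    obtain ⟨c, hc⟩ := hq1
    have hxq : x⁻¹ ^ q ∈ (frattini Q).map Q.subtype := by
      rw [hc, pow_mul]; exact pow_mem (pow_mem_map_frattini hQ (inv_mem hx)) c
    rw [e, hmul _ hx _ hx', conj_pow, ← h2 ha _ hxq, mul_inv_cancel_right, inv_pow, mul_inv_cancel]
  intro x hx
  have := (h4 hx).2
  rcases hq3 with rfl | ⟨h, rfl⟩
  · exact Or.inl this
  · exact Or.inr ⟨h, this⟩

/-- The Hall-Higman reduction: `A ⊴ B` a `p'`-group acting nontrivially on the `p`-group `P` and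
trivially on all proper `B`-invariant subgroups. Then `P = [P, A]`,
`Φ(P) = P' = C_P(A) ≤ Z(P)` and `P` has exponent `p` or `4`. -/
theorem minimal_action_structure' {B A P : Subgroup G} (hP : IsPGroup p P)
    (hBP : B ≤ normalizer (P : Set G)) (hAB : A ≤ B) (hAn : B ≤ normalizer (A : Set G))
    (hAp : (Nat.card A).Coprime p) (hnt : ⁅P, A⁆ ≠ ⊥)
    (hmin : ∀ U < P, B ≤ normalizer (U : Set G) → ⁅U, A⁆ = ⊥) :
    ⁅P, A⁆ = P ∧ (frattini P).map P.subtype ≤ centralizer (P : Set G) ∧
      (frattini P).map P.subtype = ⁅P, P⁆ ∧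
      (frattini P).map P.subtype = P ⊓ centralizer (A : Set G) ∧
      ∀ x ∈ P, x ^ p = 1 ∨ (p = 2 ∧ x ^ 4 = 1) := by
  have hAP := hAB.trans hBP
  have hcop : (Nat.card A).Coprime (Nat.card P) := by
    obtain ⟨k, hk⟩ := IsPGroup.iff_card.mp hP
    rw [hk]; exact hAp.pow_right k
  have h1 : ⁅P, A⁆ = P := by
    by_contra h
    have hlt : ⁅P, A⁆ < P := lt_of_le_of_ne (commutator_le_left_of_le_normalizer hAP) h
    exact hnt (Coprime.commutator_eq_bot_of_commutator_commutator_eq_bot hAP hcop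
      (hmin _ hlt (le_normalizer_commutator hBP hAn)))
  set F := (frattini P).map P.subtype with hF
  have hPne : P ≠ ⊥ := by
    rintro rfl
    exact hnt (commutator_bot_left _)
  have hFlt : F < P := by
    have : Nontrivial P := (nontrivial_iff_ne_bot P).mpr hPne
    refine lt_of_le_of_ne (map_subtype_le _) fun h => frattini_ne_top (G := P) ?_
    apply map_injective P.subtype_injective
    rw [← hF, h, ← MonoidHom.range_eq_map, range_subtype]
  have hFn : normalizer (P : Set G) ≤ normalizer (F : Set G) :=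
    normalizer_le_normalizer_map_subtype_of_char _
  have h2' : ⁅F, A⁆ = ⊥ := hmin F hFlt (hBP.trans hFn)
  have h2 : F ≤ centralizer (A : Set G) := commutator_eq_bot_iff_le_centralizer.mp h2'
  have h3 : F ≤ centralizer (P : Set G) := by
    rw [le_centralizer_iff, ← commutator_eq_bot_iff_le_centralizer, ← h1,
      Subgroup.commutator_comm P A]
    apply commutator_commutator_eq_bot_of_rotate
    · rw [eq_bot_iff, ← h2']
      apply commutator_mono _ le_rfl
      rw [Subgroup.commutator_comm]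
      exact commutator_le_left_of_le_normalizer (le_normalizer.trans hFn)
    · rw [h2', commutator_bot_left]
  have h4 := inf_centralizer_inf_commutator_le hAP hcop
  rw [h1, inf_right_comm, inf_idem] at h4
  have h5 : ⁅P, P⁆ ≤ F := commutator_le_map_frattini hP
  have h6 : F ≤ P ⊓ centralizer (A : Set G) := le_inf hFlt.le h2
  exact ⟨h1, h3, le_antisymm (h6.trans h4) h5, le_antisymm h6 (h4.trans h5),
    small_exponent_of_commutator_eq hP hAP h1 h3 (le_centralizer_iff.mp h2)⟩

end Cfsg.Lib.Trans
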