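import Cfsg.Agent.FT.BG7.Trans
import Cfsg.Agent.Trans.PQOdd
import Cfsg.Agent.Solv.CommCalc
import Cfsg.Agent.Solv.CoprimeSylow
import Cfsg.Agent.S0028

/-!
Bender's lemma for Sylow subgroups of class at most two and the Thompson Transitivity Theorem for
groups with `p`-constrained `p`-local subgroups.
-/

set_option autoImplicit false

open Pointwise Cfsg Cfsg.Lib.Solv

namespace Cfsg.Lib.FT

variable {G : Type*} [Group G] [Finite G] {p : ℕ} [hp : Fact p.Prime]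

/-- The `P Q`-lemma for a quadratically acting `p`-group. -/
theorem le_cent_of_pq_quadratic {A Q R : Subgroup G} (hA : IsPGroup p A)
    (hQ : (Nat.card Q).Coprime p) (hAQ : A ≤ 𝐍 Q) (hR : IsPGroup p R) (hAR : A ≤ 𝐍 R)
    (hQR : Q ≤ 𝐍 R) (h2 : ⁅⁅R, A⁆, A⁆ = ⊥) (h : R ⊓ 𝐂 A ≤ 𝐂 Q) : Q ≤ 𝐂 R := by
  have hcop : (Nat.card A).Coprime (Nat.card Q) := coprime_card_of_isPGroup hA hQ
  have hZR : ⁅R, A⁆ ≤ R := commg_subl.2 hAR
  have hZQ : ⁅R, A⁆ ≤ 𝐂 Q := (le_inf hZR (commG1P.1 h2)).trans h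
  have hQA : ⁅Q, A⁆ ≤ Q := commg_subl.2 hAQ
  rw [← Coprime.commutator_sup_centralizer hAQ hcop (Or.inl (pgroup_sol hA))]
  refine sup_le ?_ ?_
  · have h3 : ⁅⁅Q, A⁆, R⁆ ≤ ⁅R, A⁆ := by
      refine three_subgroups_le_of_le_normalizer (cents_norm (centsC.1 hZQ)) (commg_normr _ _)
        (commg_norml _ _) ?_ ?_
      · rw [Subgroup.commutator_comm A R, commG1P.2 hZQ]; exact bot_le
      · exact commgSS (commg_subl.2 hQR) le_rfl
    refine Coprime.le_centralizer_of_commutator_le (N := ⁅R, A⁆) ?_ ?_ (hQA.trans (centsC.1 hZQ))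
    · exact (coprime_card_of_isPGroup (hR.to_le hZR) (coprimeSg hQA hQ)).symm
    · rwa [Subgroup.commutator_comm]
  · exact Cfsg.Agent.S0028.result p A _ R hA (coprimeSg inf_le_left hQ) hR
      (centsC.1 inf_le_right) hAR (inf_le_left.trans hQR) (h.trans (centS inf_le_left))

/-- Bender's lemma when the Sylow `p`-subgroups have class at most two. -/
theorem le_pPrimeCore_of_classTwo (hG : IsPConstrained p G) (S : Sylow p G)
    (hS : ⁅⁅(S : Subgroup G), (S : Subgroup G)⁆, (S : Subgroup G)⁆ = ⊥) {A Q : Subgroup G}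
    (hAS : A ≤ S) (hQ : (Nat.card Q).Coprime p) (hAQ : A ≤ 𝐍 Q)
    (h : ∀ x ∈ 𝐂 A, IsPGroup p (Subgroup.zpowers x) → x ∈ 𝐍 Q) : Q ≤ pPrimeCore p G := by
  have hc := coprime_card_pPrimeCore p G
  have hA : IsPGroup p A := S.isPGroup'.to_le hAS
  let f := QuotientGroup.mk' (pPrimeCore p G)
  have hf : Function.Surjective f := QuotientGroup.mk'_surjective _
  have hG' := isPConstrained_iff_quotient.mp hG
  set R := pCore p (G ⧸ pPrimeCore p G) with hRdef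
  have hR : IsPGroup p R := pCore_isPGroup p _
  have hQ' : (Nat.card (Q.map f)).Coprime p := hQ.coprime_dvd_left (Subgroup.card_map_dvd _ f)
  have h0 := inf_eq_bot_of_isPGroup_of_coprime hR hQ'
  have hRS : R ≤ (S : Subgroup G).map f := pCore_le_sylow (S.mapSurjective hf)
  have h1 : R ⊓ 𝐍 (Q.map f) ≤ 𝐂 (Q.map f) := by
    rw [← commG1P, eq_bot_iff, ← h0]
    exact le_inf ((commgSS inf_le_left le_rfl).trans (Subgroup.commutator_le_left _ _))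
      (commg_subr.2 inf_le_right)
  have h3 : Q.map f ≤ 𝐂 R := by
    refine le_cent_of_pq_quadratic (hA.map f) hQ' (norms_map hAQ f) hR
      Subgroup.le_normalizer_of_normal Subgroup.le_normalizer_of_normal ?_ ?_
    · rw [eq_bot_iff, ← Subgroup.map_bot f, ← hS, Subgroup.map_commutator, Subgroup.map_commutator]
      exact commgSS (commgSS hRS (Subgroup.map_mono hAS)) (Subgroup.map_mono hAS)
    · refine le_trans (le_inf inf_le_left ?_) h1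
      rintro x ⟨hxR, hx⟩
      rw [← map_mk'_centralizer_of_isPGroup _ hc hA] at hx
      obtain ⟨y, hy, rfl⟩ := hx
      obtain ⟨n, hn⟩ := hR ⟨_, hxR⟩
      have hxp : (f y) ^ p ^ n = 1 := congrArg Subtype.val hn
      have h4 : (y ^ Nat.card (pPrimeCore p G)) ^ p ^ n = 1 := by
        rw [← map_pow, QuotientGroup.mk'_apply, QuotientGroup.eq_one_iff] at hxp
        rw [← pow_mul, mul_comm, pow_mul]
        exact congrArg Subtype.val (pow_card_eq_one' (x := (⟨_, hxp⟩ : pPrimeCore p G)))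
      have h5 : IsPGroup p (Subgroup.zpowers (y ^ Nat.card (pPrimeCore p G))) := by
        obtain ⟨k, -, hk⟩ := (Nat.dvd_prime_pow hp.out).1 (orderOf_dvd_of_pow_eq_one h4)
        exact IsPGroup.of_card (by rw [Nat.card_zpowers, hk])
      have h6 := Subgroup.le_normalizer_map f (Subgroup.mem_map_of_mem f (h _ (pow_mem hy _) h5))
      obtain ⟨m, hm⟩ := exists_pow_eq_self_of_coprime
        ((hc.pow_right n).coprime_dvd_right (orderOf_dvd_of_pow_eq_one hxp))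
      rw [← hm]
      rw [map_pow] at h6
      exact pow_mem h6 m
  have h7 : Q.map f = ⊥ := by
    rw [eq_bot_iff, ← h0]
    exact le_inf (h3.trans hG') le_rfl
  rwa [Subgroup.map_eq_bot_iff, QuotientGroup.ker_mk'] at h7

/-- The transitivity theorem, from a local hypothesis on the normalisers of the cyclic subgroups
of `E`. -/
theorem transOn_of_local {E B : Subgroup G} (hE : IsPGroup p E) (hab : IsMulCommutative E)
    (hBE : B ≤ E) (hB : IsElementaryAbelian p B) (h3 : p ^ 3 ≤ Nat.card B)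
    (hloc : ∀ u ∈ E, u ≠ 1 → ∀ Y : Subgroup G, Y ≤ 𝐂₁ u → IsPiSubgroup ({p}ᶜ : Set ℕ) Y →
      E ≤ 𝐍 Y → Y ≤ piCoreOf ({p}ᶜ : Set ℕ) (𝐍 (Subgroup.zpowers u)))
    {q : ℕ} [hq : Fact q.Prime] (hqp : q ≠ p) :
    TransOn (piCoreOf ({p}ᶜ : Set ℕ) (𝐂 E)) (maxInvSubgroups ⊤ E {q}) := by
  intro Q₁ h₁ Q₂ h₂
  induction hn : Nat.card G - Nat.card (Q₁ ⊓ Q₂ : Subgroup G) using Nat.strong_induction_on
    generalizing Q₁ Q₂ with
  | _ n ih =>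
  by_cases hQ : Q₁ = Q₂
  · exact ⟨1, Subgroup.one_mem _, by rw [conj_one_smul, hQ]⟩
  obtain ⟨hq₁, hA₁⟩ := mem_max_normed h₁
  obtain ⟨hq₂, hA₂⟩ := mem_max_normed h₂
  have hlt₁ : Q₁ ⊓ Q₂ < Q₁ := lt_of_le_of_ne inf_le_left fun e =>
    hQ (max_normed_max h₁ hq₂ hA₂ (inf_eq_left.1 e)).symm
  have hlt₂ : Q₁ ⊓ Q₂ < Q₂ := lt_of_le_of_ne inf_le_right fun e =>
    hQ (max_normed_max h₂ hq₁ hA₁ (inf_eq_right.1 e))
  set D := Q₁ ⊓ Q₂ with hD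
  have hED : E ≤ 𝐍 D := normsI hA₁ hA₂
  have hl₁ : D < Q₁ ⊓ 𝐍 D := nilpotent_proper_norm (pgroup_nil (pgroup_iff.1 hq₁)) hlt₁
  have hl₂ : D < Q₂ ⊓ 𝐍 D := nilpotent_proper_norm (pgroup_nil (pgroup_iff.1 hq₂)) hlt₂
  have hp' : ∀ {X : Subgroup G}, IsPiSubgroup {q} X → IsPiSubgroup ({p}ᶜ : Set ℕ) X :=
    fun h => pi_singleton_pgroup h hqp
  have hco : ∀ {X : Subgroup G}, IsPiSubgroup ({p}ᶜ : Set ℕ) X →
      (Nat.card E).Coprime (Nat.card X) := fun h => pgroup_coprime_p'group hE h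
  have hBab : IsMulCommutative B := abelianS hBE hab
  have hn₁ : E ≤ 𝐍 (Q₁ ⊓ 𝐍 D) := normsI hA₁ (norms_norm hED)
  have hn₂ : E ≤ 𝐍 (Q₂ ⊓ 𝐍 D) := normsI hA₂ (norms_norm hED)
  obtain ⟨C, hCB, ⟨a, ha, hCa⟩, hC⟩ : ∃ C : Subgroup G, C ≤ B ∧
      (∃ a ∈ B, C ⊔ Subgroup.zpowers a = B) ∧ ¬ (Q₁ ⊓ 𝐍 D) ⊓ 𝐂 C ≤ D := by
    by_contra hcon
    push Not at hcon
    exact hl₁.not_ge (bg7_gen_cent hBab (hBE.trans hn₁)
      (coprimegS hBE (hco (hp' (pgroupS inf_le_left hq₁))).symm) hcon)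
  have hnc := bg7_not_cyclic_of_rank3 hB h3 hCB ha hCa
  obtain ⟨z, hz, hz1, hz2⟩ : ∃ z ∈ C, z ≠ 1 ∧ ¬ (Q₂ ⊓ 𝐍 D) ⊓ 𝐂₁ z ≤ D := by
    by_contra hcon
    push Not at hcon
    exact hl₂.not_ge (bg7_gen_cent1 (abelianS hCB hBab) hnc ((hCB.trans hBE).trans hn₂)
      (coprimegS (hCB.trans hBE) (hco (hp' (pgroupS inf_le_left hq₂))).symm) hcon)
  have hz1' : ¬ (Q₁ ⊓ 𝐍 D) ⊓ 𝐂₁ z ≤ D := fun h =>
    hC ((inf_le_inf_left _ (cent_le_cent1 hz)).trans h)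
  have hzE : z ∈ E := hBE (hCB hz)
  have hEz : E ≤ 𝐂₁ z := (abelian_le_cent hab).trans (cent_le_cent1 hzE)
  set O := piCoreOf ({p}ᶜ : Set ℕ) (𝐍 (Subgroup.zpowers z)) with hO
  have hEO : E ≤ 𝐍 O := norms_pcore _ (normsG (hEz.trans (cent1_le_norm_zpowers z)))
  set L := D ⊔ (O ⊓ 𝐍 D) with hL
  have hLp : IsPiSubgroup ({p}ᶜ : Set ℕ) L :=
    pgroupY inf_le_right (hp' (pgroupS inf_le_left hq₁)) (pgroupS inf_le_left (pcore_pgroup _ _))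
  have hEL : E ≤ 𝐍 L := normsY hED (normsI hEO (norms_norm hED))
  have Qsyl : ∀ Q : Subgroup G, IsPiSubgroup {q} Q → E ≤ 𝐍 Q → D ≤ Q →
      ¬ (Q ⊓ 𝐍 D) ⊓ 𝐂₁ z ≤ D → ∃ U R : Subgroup G, D < U ∧ U ≤ Q ∧ U ≤ R ∧ R ≤ L ∧
        IsPGroup q R ∧ ¬ q ∣ R.relIndex L ∧ E ≤ 𝐍 R := by
    intro Q hQ hEQ hDQ hne
    have hn : E ≤ 𝐍 ((Q ⊓ 𝐍 D) ⊓ 𝐂₁ z) := normsI (normsI hEQ (norms_norm hED)) (norms_cent1 hEz)
    have hUQ : D ⊔ ((Q ⊓ 𝐍 D) ⊓ 𝐂₁ z) ≤ Q := sup_le hDQ (inf_le_left.trans inf_le_left)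
    have hUL : D ⊔ ((Q ⊓ 𝐍 D) ⊓ 𝐂₁ z) ≤ L := sup_le_sup_left (le_inf
      (hloc z hzE hz1 _ inf_le_right (hp' (pgroupS (inf_le_left.trans inf_le_left) hQ)) hn)
      (inf_le_left.trans inf_le_right)) _
    obtain ⟨R, h1, h2, h3, h4, h5⟩ := Coprime.exists_le_invariant_sylow' (p := q) hEL (hco hLp)
      (Or.inl (pgroup_sol hE)) hUL (pgroup_iff.1 (pgroupS hUQ hQ)) (normsY hED hn)
    exact ⟨_, R, lt_of_le_of_ne le_sup_left fun e => hne (le_sup_right.trans e.ge), hUQ, h1, h2,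
      h3, h4, h5⟩
  obtain ⟨U₁, R₁, hD₁, hU₁, hUR₁, hR₁L, hR₁, hi₁, hE₁⟩ := Qsyl Q₁ hq₁ hA₁ inf_le_left hz1'
  obtain ⟨U₂, R₂, hD₂, hU₂, hUR₂, hR₂L, hR₂, hi₂, hE₂⟩ := Qsyl Q₂ hq₂ hA₂ inf_le_right hz2
  obtain ⟨h, hh, hR⟩ := Coprime.invariant_sylow_conj' hEL (hco hLp) (Or.inl (pgroup_sol hE))
    hR₁L hR₁ hi₁ hE₁ hR₂L hR₂ hi₂ hE₂
  have hhK : h ∈ piCoreOf ({p}ᶜ : Set ℕ) (𝐂 E) := by
    have h1 : L ⊓ 𝐂 E ≤ O := hloc z hzE hz1 _ (inf_le_right.trans (cent_le_cent1 hzE))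
      (pgroupS inf_le_left hLp) (normsI hEL (norms_cent (normG E)))
    exact pcoreS _ ((cent_le_cent1 hzE).trans (cent1_le_norm_zpowers z)) ⟨h1 hh, hh.2⟩
  obtain ⟨Q₃, h₃, hRQ₃⟩ := max_normed_exists (pgroup_iff.2 hR₂) hE₂
  have h₁h := cent_core_acts_max_norm hhK h₁
  have hs₁ : h •ᶜ U₁ ≤ h •ᶜ Q₁ ⊓ Q₃ :=
    le_inf (conj_smul_mono h hU₁) ((conj_smul_mono h hUR₁).trans (hR ▸ hRQ₃))
  have hs₂ : U₂ ≤ Q₃ ⊓ Q₂ := le_inf (hUR₂.trans hRQ₃) hU₂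
  have hc₁ := proper_card hD₁
  have hc₂ := proper_card hD₂
  have hd₁ := Subgroup.card_le_of_le hs₁
  rw [card_conj_smul] at hd₁
  have hd₂ := Subgroup.card_le_of_le hs₂
  have he₁ := Subgroup.card_le_card_group (h •ᶜ Q₁ ⊓ Q₃)
  have he₂ := Subgroup.card_le_card_group (Q₃ ⊓ Q₂)
  obtain ⟨k, hk, e₁⟩ := ih _ (by omega) _ h₁h _ h₃ rfl
  obtain ⟨l, hl, e₂⟩ := ih _ (by omega) _ h₃ _ h₂ rfl
  refine ⟨l * (k * h), Subgroup.mul_mem _ hl (Subgroup.mul_mem _ hk hhK), ?_⟩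
  rw [conj_mul_smul, conj_mul_smul, ← e₁, ← e₂]

/-- Bender's lemma inside a `p`-constrained subgroup. -/
theorem le_pcore_of_constrained {N E Y : Subgroup G} (hN : IsPConstrained p N)
    (h2 : p = 2 → ∀ S : Sylow p G, ⁅⁅(S : Subgroup G), (S : Subgroup G)⁆, (S : Subgroup G)⁆ = ⊥)
    (hE : IsPGroup p E) (hEN : E ≤ N) (hYN : Y ≤ N)
    (hfull : ∀ x ∈ 𝐂 E, IsPGroup p (Subgroup.zpowers x) → x ∈ E)
    (hY : IsPiSubgroup ({p}ᶜ : Set ℕ) Y) (hEY : E ≤ 𝐍 Y) : Y ≤ piCoreOf ({p}ᶜ : Set ℕ) N := by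
  have hY' : (Nat.card (Y.subgroupOf N)).Coprime p := by
    rw [Coprime.card_subgroupOf hYN]; exact (p'group_iff_coprime hp.out).1 hY
  have hE' : IsPGroup p (E.subgroupOf N) := hE.comap_subtype
  have hEY' : E.subgroupOf N ≤ 𝐍 (Y.subgroupOf N) := by
    rw [normsP]
    intro a ha y hy
    exact normsP.1 hEY _ ha _ hy
  have hf : ∀ x ∈ 𝐂 (E.subgroupOf N), IsPGroup p (Subgroup.zpowers x) →
      x ∈ 𝐍 (Y.subgroupOf N) := by
    intro x hx hxp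
    refine hEY' (hfull x (mem_cent.2 fun e he => ?_) ?_)
    · exact congrArg Subtype.val (mem_cent.1 hx ⟨e, hEN he⟩ he)
    · have := hxp.map N.subtype
      rwa [MonoidHom.map_zpowers] at this
  have key : Y.subgroupOf N ≤ pPrimeCore p N := by
    by_cases hp2 : p = 2
    · obtain ⟨S, hS⟩ := hE'.exists_le_sylow
      obtain ⟨T, hT⟩ := (S.isPGroup'.map N.subtype).exists_le_sylow
      refine le_pPrimeCore_of_classTwo hN S ?_ hS hY' hEY' hf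
      rw [← Subgroup.map_eq_bot_iff_of_injective _ N.subtype_injective, eq_bot_iff,
        ← h2 hp2 T, Subgroup.map_commutator, Subgroup.map_commutator]
      exact commgSS (commgSS hT hT) hT
    · refine Cfsg.Lib.Trans.le_pPrimeCore_of_pq_odd hp2 hN hE' hY' hEY' fun x hx hxp => hf x hx ?_
      obtain ⟨k, -, hk⟩ := (Nat.dvd_prime_pow hp.out).1
        (orderOf_dvd_of_pow_eq_one (n := p ^ 1) (by rwa [pow_one]))
      exact IsPGroup.of_card (by rw [Nat.card_zpowers, hk])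
  rw [p'core_eq_map, ← Subgroup.map_subgroupOf_eq_of_le hYN]
  exact Subgroup.map_mono key

/-- The Thompson Transitivity Theorem for groups with `p`-constrained `p`-locals (Bender's form). -/
theorem thompson_transitivity_constrained
    (hloc : ∀ T : Subgroup G, IsPGroup p T → T ≠ ⊥ → IsPConstrained p (𝐍 T))
    (h2 : p = 2 → ∀ S : Sylow p G, ⁅⁅(S : Subgroup G), (S : Subgroup G)⁆, (S : Subgroup G)⁆ = ⊥)
    {E B : Subgroup G} (hE : IsPGroup p E) (hab : IsMulCommutative E)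
    (hBE : B ≤ E) (hB : ∀ b ∈ B, b ^ p = 1) (h3 : p ^ 3 ≤ Nat.card B)
    (hfull : ∀ x ∈ 𝐂 E, IsPGroup p (Subgroup.zpowers x) → x ∈ E)
    {q : ℕ} [hq : Fact q.Prime] (hqp : q ≠ p) :
    TransOn (piCoreOf ({p}ᶜ : Set ℕ) (𝐂 E)) (maxInvSubgroups ⊤ E {q}) := by
  refine transOn_of_local hE hab hBE ?_ h3 (fun u hu hu1 Y hYu hY hEY => ?_) hqp
  · exact abelem_of_abelian_of_pow (abelianS hBE hab) hB
  · refine le_pcore_of_constrained (hloc _ (hE.to_le (Subgroup.zpowers_le.2 hu)) ?_) h2 hE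
      (((abelian_le_cent hab).trans (cent_le_cent1 hu)).trans (cent1_le_norm_zpowers u))
      (hYu.trans (cent1_le_norm_zpowers u)) hfull hY hEY
    rwa [Ne, Subgroup.zpowers_eq_bot]

end Cfsg.Lib.FT
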