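import Cfsg.Agent.Trans.Centric
import Cfsg.Agent.Solv.Omega

/-!
Alperin's argument restricted to radical subgroups, and the criterion for a subgroup to control
strong fusion: a central series of strongly closed subgroups.
-/

set_option autoImplicit false

namespace Cfsg.Lib.Trans

open scoped commutatorElement

variable {G : Type*} [Group G] {p : ℕ}

/-- `V` is strongly closed in `S` with respect to `H`. -/
def SClosedIn (V S H : Subgroup G) : Prop :=
  ∀ v ∈ V, ∀ h ∈ H, h * v * h⁻¹ ∈ S → h * v * h⁻¹ ∈ V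

theorem SClosedIn.cj_le {V S H A : Subgroup G} (h : SClosedIn V S H) (hA : A ≤ V) {g : G}
    (hg : g ∈ H) (hgA : cj g A ≤ S) : cj g A ≤ V := by
  rw [cj_le_iff] at hgA ⊢
  exact fun a ha => h a (hA ha) g hg (hgA a ha)

theorem CtlFus.sClosedIn {X S H Y : Subgroup G} (h : CtlFus (X : Set G) S H) (hY : Y ≤ S)
    (hX : X ≤ Subgroup.normalizer (Y : Set G)) : SClosedIn Y S H := by
  intro v hv g hg hgv
  obtain ⟨x, hx, e⟩ := ctlFus_subgroup_iff.mp h {v} g hg (Set.singleton_subset_iff.mpr (hY hv))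
    (by rwa [Set.image_singleton, Set.singleton_subset_iff])
  rw [← e v rfl]
  exact (Subgroup.mem_normalizer_iff.mp (hX hx) v).mp hv

/-- `U` is radical in `S` relative to `H`: every normal subgroup of `N_H(U)` whose elements of
order prime to `p` centralize `U` meets `S` inside `U`. -/
def RadicalIn (p : ℕ) (S H U : Subgroup G) : Prop :=
  ∀ K ≤ H ⊓ Subgroup.normalizer (U : Set G),
    H ⊓ Subgroup.normalizer (U : Set G) ≤ Subgroup.normalizer (K : Set G) →
    (∀ x ∈ K, (orderOf x).Coprime p → x ∈ Subgroup.centralizer (U : Set G)) → S ⊓ K ≤ U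

theorem RadicalIn.inf_centralizer_le {S H U : Subgroup G} (h : RadicalIn p S H U) (hS : S ≤ H) :
    S ⊓ Subgroup.centralizer (U : Set G) ≤ U := by
  refine le_trans (le_inf inf_le_left (inf_le_inf_right _ hS))
    (h (H ⊓ Subgroup.centralizer (U : Set G))
      (inf_le_inf_left _ (Subgroup.centralizer_le_normalizer _)) (fun n hn => ?_) fun x hx _ => hx.2)
  rw [← cj_eq_self_iff, cj_inf, cj_eq_of_mem hn.1, cj_centralizer, cj_eq_of_mem_normalizer hn.2]

/-- The stabilizer in `Y` of the chain `M`. -/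
def chainStab (Y : Subgroup G) (M : ℕ → Subgroup G)
    (hY : ∀ i, Y ≤ Subgroup.normalizer (M i : Set G)) : Subgroup G where
  carrier := {g | g ∈ Y ∧ ∀ i, ∀ u ∈ M i, u⁻¹ * (g * u * g⁻¹) ∈ M (i + 1)}
  one_mem' := ⟨Y.one_mem, fun i u _ => by simp⟩
  mul_mem' := by
    rintro g h ⟨hg, hg'⟩ ⟨hh, hh'⟩
    refine ⟨Y.mul_mem hg hh, fun i u hu => ?_⟩
    have := (M (i + 1)).mul_mem (hg' i u hu)
      ((Subgroup.mem_normalizer_iff.mp (hY (i + 1) hg) _).mp (hh' i u hu))
    convert this using 1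
    group
  inv_mem' := by
    rintro g ⟨hg, hg'⟩
    refine ⟨Y.inv_mem hg, fun i u hu => ?_⟩
    have := (Subgroup.mem_normalizer_iff.mp (hY (i + 1) (Y.inv_mem hg)) _).mp
      ((M (i + 1)).inv_mem (hg' i u hu))
    convert this using 1
    group

theorem le_normalizer_chainStab (Y : Subgroup G) (M : ℕ → Subgroup G)
    (hY : ∀ i, Y ≤ Subgroup.normalizer (M i : Set G)) :
    Y ≤ Subgroup.normalizer (chainStab Y M hY : Set G) := by
  rw [Subgroup.le_normalizer_iff]
  rintro n hn g ⟨hg, hg'⟩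
  refine ⟨Y.mul_mem (Y.mul_mem hn hg) (Y.inv_mem hn), fun i u hu => ?_⟩
  have := (Subgroup.mem_normalizer_iff.mp (hY (i + 1) hn) _).mp
    (hg' i _ ((Subgroup.mem_normalizer_iff''.mp (hY i hn) u).mp hu))
  convert this using 1
  group

variable [Finite G] [Fact p.Prime]

omit [Finite G] [Fact p.Prime] in
theorem mem_centralizer_of_coprime_of_desc_chain (M : ℕ → Subgroup G) (hM : ∀ i, IsPGroup p (M i))
    {n : ℕ} (h0 : M n = ⊥) {g : G} (hg : (orderOf g).Coprime p)
    (h : ∀ i, ∀ u ∈ M i, u⁻¹ * (g * u * g⁻¹) ∈ M (i + 1)) :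
    g ∈ Subgroup.centralizer (M 0 : Set G) := by
  have key : ∀ k, g ∈ Subgroup.centralizer (M (n - k) : Set G) := by
    intro k
    induction k with
    | zero => rw [Nat.sub_zero, h0]; exact mem_centralizer_bot g
    | succ k ih =>
      rcases Nat.lt_or_ge k n with hk | hk
      · refine mem_centralizer_of_conj_eq fun u hu => conj_eq_of_coprime_of_two_step (hM (n - k))
          hg ih ?_
        have := h _ u hu
        rwa [show n - (k + 1) + 1 = n - k by omega] at this
      · rwa [show n - (k + 1) = n - k by omega]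
  simpa using key n

/-- Alperin's argument needs only the radical subgroups. -/
theorem alperin_radical {S H : Subgroup G} (hS : IsSylowIn p S H)
    (R : Subgroup G → G → Prop) (hmono : ∀ A B g, A ≤ B → R B g → R A g)
    (hmul : ∀ A g h, R A g → R (cj g A) h → R A (h * g))
    (hcent : ∀ (A : Subgroup G) c, c ∈ H → c ∈ Subgroup.centralizer (A : Set G) → R A c)
    (hloc : ∀ U ≤ S, FullyNorm p S H U → RadicalIn p S H U →
      (∀ V ≤ S, Nat.card U < Nat.card V → ∀ m ∈ H, cj m V ≤ S → R V m) →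
        ∀ n ∈ H ⊓ Subgroup.normalizer (U : Set G), R U n) :
    ∀ T ≤ S, ∀ g ∈ H, cj g T ≤ S → R T g := by
  refine alperin_induction' hS R hmono hmul fun U hU hfn ih n hn => ?_
  by_cases hr : RadicalIn p S H U
  · exact hloc U hU hfn hr ih n hn
  simp only [RadicalIn, not_forall] at hr
  obtain ⟨K, hK, hKn, hKc, hle⟩ := hr
  have h1 : IsSylowIn p (S ⊓ K) K := by
    have := IsSylowIn.inf_normal_of_le hfn hKn hK
    rwa [inf_assoc, inf_of_le_right (hK.trans inf_le_right)] at this
  obtain ⟨m, hm, k, hk, rfl⟩ := h1.frattini' (hKn hn)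
  obtain ⟨t, ht, c, hc, hcK, rfl⟩ := h1.exists_mul_eq hKc hk
  have h2 : m ∈ H ⊓ Subgroup.normalizer (U : Set G) :=
    (Subgroup.mul_mem_cancel_right _ (hK hk)).mp hn
  rw [← mul_assoc]
  refine hmul _ _ _ (hcent U c (hK hcK).1 hc) ?_
  rw [cj_eq_of_mem_centralizer hc]
  refine hmono _ _ _ le_sup_left (ih (U ⊔ S ⊓ K) (sup_le hU inf_le_left)
    (card_lt_of_lt (left_lt_sup.mpr hle)) _ (H.mul_mem h2.1 (hK ht.2).1) ?_)
  rw [cj_sup, cj_mul, cj_mul, cj_eq_of_mem ht, cj_eq_of_mem_normalizer hm,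
    cj_eq_of_mem_normalizer (hK ht.2).2, cj_eq_of_mem_normalizer h2.2]
  exact sup_le hU inf_le_left

/-- A subgroup with a central series of strongly closed subgroups lies in every radical
subgroup. -/
theorem RadicalIn.le_of_chain {S H U V : Subgroup G} (h : RadicalIn p S H U) (hS : IsPGroup p S)
    (hSH : S ≤ H) (hU : U ≤ S) (hV : V ≤ S) (L : ℕ → Subgroup G) (h0 : L 0 = V) {n : ℕ}
    (hn : L n = ⊥) (hL : ∀ i, SClosedIn (L i) S H) (hc : ∀ i, ⁅L i, V⁆ ≤ L (i + 1)) : V ≤ U := by
  obtain ⟨M, hM0, hM⟩ : ∃ M : ℕ → Subgroup G, M 0 = U ∧ ∀ i, M (i + 1) = U ⊓ L i :=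
    ⟨fun i => Nat.rec U (fun i _ => U ⊓ L i) i, rfl, fun _ => rfl⟩
  have hY : ∀ i, H ⊓ Subgroup.normalizer (U : Set G) ≤
      Subgroup.normalizer ((M i : Subgroup G) : Set G) := by
    rintro (_ | i)
    · rw [hM0]; exact inf_le_right
    · intro g hg
      rw [hM]
      apply mem_normalizer_of_cj_le
      have h1 : cj g (U ⊓ L i) ≤ U :=
        (cj_mono g inf_le_left).trans (cj_eq_of_mem_normalizer hg.2).le
      exact le_inf h1 ((hL i).cj_le inf_le_right hg.1 (h1.trans hU))
  have hSV : S ≤ Subgroup.normalizer (V : Set G) := fun s hs =>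
    mem_normalizer_of_cj_le ((h0 ▸ hL 0).cj_le le_rfl (hSH hs) (cj_le_of_mem_of_le hs hV))
  have h1 := h (chainStab _ M hY) (fun g hg => hg.1) (le_normalizer_chainStab _ M hY)
    (fun x hx hcop => hM0 ▸ mem_centralizer_of_coprime_of_desc_chain M (n := n + 1) (by
      rintro (_ | i)
      · rw [hM0]; exact hS.to_le hU
      · rw [hM]; exact hS.to_le (inf_le_left.trans hU)) (by rw [hM, hn, inf_bot_eq]) hcop
      hx.2)
  by_contra hVU
  refine Solv.PG.not_inf_normalizer_le (hS.to_le hU) (hS.to_le hV) (hU.trans hSV) hVU ?_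
  rintro v ⟨hv, hvU⟩
  refine h1 ⟨hV hv, ⟨hSH (hV hv), hvU⟩, fun i u hu => ?_⟩
  have hu' : u ∈ U := by
    rcases i with _ | i
    · rwa [hM0] at hu
    · rw [hM] at hu; exact hu.1
  rw [hM]
  refine Subgroup.mem_inf.mpr
    ⟨U.mul_mem (U.inv_mem hu') ((Subgroup.mem_normalizer_iff.mp hvU u).mp hu'), ?_⟩
  rcases i with _ | i
  · rw [h0]
    have := V.mul_mem ((Subgroup.mem_normalizer_iff''.mp (hSV (hU hu')) v).mp hv) (V.inv_mem hv)
    simpa only [mul_assoc] using this
  · rw [hM] at hu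
    have := hc i (Subgroup.commutator_mem_commutator ((L i).inv_mem hu.2) hv)
    rw [commutatorElement_def, inv_inv] at this
    simpa only [mul_assoc] using this

theorem exists_iterCommutator_self_eq_bot {V : Subgroup G} (hV : IsPGroup p V) :
    ∃ n, iterCommutator V V n = ⊥ := by
  obtain ⟨k, hk⟩ := IsPGroup.iff_card.mp hV
  exact ⟨k, Solv.PG.iterCommutator_eq_bot_of_card_le hV hV Subgroup.le_normalizer hk.le⟩

omit [Finite G] [Fact p.Prime] in
theorem iterCommutator_self_le (V : Subgroup G) (i : ℕ) : iterCommutator V V i ≤ V :=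
  Solv.PG.iterCommutator_antitone Subgroup.le_normalizer (Nat.zero_le i)

omit [Finite G] [Fact p.Prime] in
theorem normalizer_le_normalizer_iterCommutator_self (V : Subgroup G) (i : ℕ) :
    Subgroup.normalizer (V : Set G) ≤
      Subgroup.normalizer ((iterCommutator V V i : Subgroup G) : Set G) := by
  intro g hg
  rw [← cj_eq_self_iff] at hg ⊢
  rw [cj, Solv.PG.map_iterCommutator]
  change iterCommutator (cj g V) (cj g V) i = _
  rw [hg]

/-- If the terms of the lower central series of `V` are strongly closed, `V` lies in every radical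
subgroup. -/
theorem RadicalIn.le_of_lcs {S H U V : Subgroup G} (h : RadicalIn p S H U) (hS : IsPGroup p S)
    (hSH : S ≤ H) (hU : U ≤ S) (hV : V ≤ S) (hL : ∀ i, SClosedIn (iterCommutator V V i) S H) :
    V ≤ U := by
  obtain ⟨n, hn⟩ := exists_iterCommutator_self_eq_bot (hS.to_le hV)
  exact h.le_of_chain hS hSH hU hV _ rfl hn hL fun i => le_rfl

/-- A subgroup whose normalizer controls strong fusion lies in every radical subgroup. -/
theorem RadicalIn.le_of_ctlFus {S H U V X : Subgroup G} (h : RadicalIn p S H U)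
    (hS : IsPGroup p S) (hSH : S ≤ H) (hU : U ≤ S) (hV : V ≤ S) (hX : CtlFus (X : Set G) S H)
    (hXV : X ≤ Subgroup.normalizer (V : Set G)) : V ≤ U :=
  h.le_of_lcs hS hSH hU hV fun i => hX.sClosedIn ((iterCommutator_self_le V i).trans hV)
    (hXV.trans (normalizer_le_normalizer_iterCommutator_self V i))

/-- If all radical subgroups have their normalizers in `X` modulo centralizers then `X` controls
strong fusion. -/
theorem ctlFus_of_radical {S H : Subgroup G} (hS : IsSylowIn p S H) {E : Set G}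
    (h : ∀ U ≤ S, FullyNorm p S H U → RadicalIn p S H U →
      ∀ n ∈ H ⊓ Subgroup.normalizer (U : Set G), Fus E S U n) : CtlFus E S H :=
  alperin_radical hS (Fus E S) (fun _ _ _ h h' => h'.anti h) (fun _ _ _ h1 h2 => h1.mul h2)
    (fun _ _ _ hc => Fus.cent hc) fun U hU hfn hr _ => h U hU hfn hr

/-- A strongly closed subgroup contained in every radical subgroup controls strong fusion. -/
theorem ctlFus_normalizer_of_le_radical {S H V : Subgroup G} (hS : IsSylowIn p S H)
    (hV : SClosedIn V S H)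
    (h : ∀ U ≤ S, FullyNorm p S H U → RadicalIn p S H U → V ≤ U) :
    CtlFus (H ⊓ Subgroup.normalizer (V : Set G) : Subgroup G) S H := by
  refine ctlFus_of_radical hS fun U hU hfn hr n hn => ?_
  have h1 : cj n U ≤ S := (cj_eq_of_mem_normalizer hn.2).le.trans hU
  exact Fus.step ⟨hn.1, mem_normalizer_of_cj_le
    (hV.cj_le le_rfl hn.1 ((cj_mono n (h U hU hfn hr)).trans h1))⟩ h1

/-- A subgroup with a central series of strongly closed subgroups controls strong fusion. -/
theorem ctlFus_normalizer_of_chain {S H V : Subgroup G} (hS : IsSylowIn p S H) (hV : V ≤ S)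
    (L : ℕ → Subgroup G) (h0 : L 0 = V) {n : ℕ} (hn : L n = ⊥) (hL : ∀ i, SClosedIn (L i) S H)
    (hc : ∀ i, ⁅L i, V⁆ ≤ L (i + 1)) :
    CtlFus (H ⊓ Subgroup.normalizer (V : Set G) : Subgroup G) S H :=
  ctlFus_normalizer_of_le_radical hS (h0 ▸ hL 0) fun _ hU _ hr =>
    hr.le_of_chain hS.isPGroup hS.le hU hV L h0 hn hL hc

/-- An abelian strongly closed subgroup controls strong fusion. -/
theorem ctlFus_normalizer_of_comm {S H V : Subgroup G} (hS : IsSylowIn p S H) (hV : V ≤ S)
    (hcl : SClosedIn V S H) (hc : ⁅V, V⁆ = ⊥) :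
    CtlFus (H ⊓ Subgroup.normalizer (V : Set G) : Subgroup G) S H := by
  refine ctlFus_normalizer_of_chain hS hV (fun i => Nat.rec V (fun _ _ => ⊥) i) rfl (n := 1) rfl
    ?_ ?_
  · rintro (_ | i)
    · exact hcl
    · intro v hv h _ _
      rw [Subgroup.mem_bot.mp hv]
      simp
  · rintro (_ | i)
    · exact hc.le
    · exact (Subgroup.commutator_bot_left V).le

end Cfsg.Lib.Trans
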