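import Cfsg.Agent.S3888
import Cfsg.Agent.S3049
import Cfsg.Agent.Trans.Yoshida
import Cfsg.Agent.Trans.MaxClass
import Cfsg.Agent.Trans.CriticalOmega
import Cfsg.Agent.Solv.HallBound
import Cfsg.Agent.Solv.ClassNumber
import Cfsg.Agent.Solv.PowCoset
import Cfsg.Agent.Solv.Regular
import Cfsg.Agent.Fus.EssEngel
import Cfsg.Agent.FT.BG6_3
import Cfsg.Agent.FT.BG4.Aut
import Cfsg.Agent.FT.BG4.Blackburn
import Cfsg.Agent.FT.Metacyclic

/-!
Odd `p`-groups of rank at most two: `N(S)` controls transfer, and the groups `P = [P, H]` with a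
central element of order `p` fixed by the `p'`-group `H`.
-/

set_option autoImplicit false

namespace Cfsg.Lib.Trans.RankTwo

open Subgroup Cfsg.Lib Cfsg.Lib.Solv
open scoped commutatorElement

variable {G : Type*} [Group G] {p : ℕ}

/-- The central product of `p^{1+2}` and a cyclic group. -/
def Type2 (p : ℕ) (P : Subgroup G) : Prop :=
  p ^ 3 ≤ Nat.card P ∧ ∃ a b c w : G, closure {a, b, c} = P ∧ a ^ p = 1 ∧ b ^ p = 1 ∧
    Commute a c ∧ Commute b c ∧ w ∈ zpowers c ∧ w ^ p = 1 ∧ w ≠ 1 ∧ a⁻¹ * b * a = b * w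

/-- The family of class three. -/
def Type3 (p : ℕ) (P : Subgroup G) : Prop :=
  ∃ (a b c w : G) (k : ℕ), closure {a, b, c} = P ∧ a ^ p = 1 ∧ b ^ p = 1 ∧ Commute b c ∧
    c ^ p ^ (k + 2) = 1 ∧ w ∈ zpowers (c ^ p ^ (k + 1)) ∧ w ≠ 1 ∧ a⁻¹ * b * a = b * w ∧
    a⁻¹ * c * a = b * c

theorem closure_three (a b c : G) :
    closure ({a, b, c} : Set G) = (zpowers c ⊔ zpowers b) ⊔ zpowers a := by
  simp only [zpowers_eq_closure, ← Subgroup.closure_union]
  congr 1
  ext
  simp only [Set.mem_insert_iff, Set.mem_singleton_iff, Set.mem_union]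
  tauto

theorem mem_norm [Finite G] {A : Subgroup G} {g : G} (h : ∀ x ∈ A, g * x * g⁻¹ ∈ A) :
    g ∈ normalizer (A : Set G) := mem_normalizer_fintype h

theorem inv_mem_norm [Finite G] {a b c : G} (hb : a⁻¹ * b * a ∈ zpowers c ⊔ zpowers b)
    (hc : a⁻¹ * c * a ∈ zpowers c ⊔ zpowers b) :
    a ∈ normalizer ((zpowers c ⊔ zpowers b : Subgroup G) : Set G) := by
  rw [← inv_mem_iff]
  refine mem_norm fun u hu => ?_
  have : zpowers c ⊔ zpowers b ≤ (zpowers c ⊔ zpowers b).comap (MulAut.conj a⁻¹).toMonoidHom :=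
    sup_le (zpowers_le.2 (by simpa using hc)) (zpowers_le.2 (by simpa using hb))
  exact this hu

theorem zpowers_le_norm {b c : G} (h : Commute b c) : zpowers b ≤ normalizer (zpowers c : Set G) := by
  refine zpowers_le.2 (centralizer_le_normalizer _ ?_)
  rintro _ ⟨j, rfl⟩
  exact (h.zpow_right j).symm

theorem card_closure_le [Finite G] [hp : Fact p.Prime] {a b c : G} {k : ℕ} (ha : a ^ p = 1)
    (hb : b ^ p = 1) (hc : c ^ p ^ k = 1) (hbc : Commute b c)
    (h : a ∈ normalizer ((zpowers c ⊔ zpowers b : Subgroup G) : Set G)) :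
    Nat.card (closure ({a, b, c} : Set G)) ≤ p ^ (k + 2) := by
  rw [closure_three]
  have h1 := card_sup_dvd_of_le_normalizer (zpowers_le.2 h)
  have h2 := card_sup_dvd_of_le_normalizer (zpowers_le_norm hbc)
  simp only [Nat.card_zpowers] at h1 h2
  refine Nat.le_of_dvd (pow_pos hp.out.pos _) (h1.trans ?_)
  rw [pow_succ, pow_succ]
  exact mul_dvd_mul (h2.trans (mul_dvd_mul (orderOf_dvd_of_pow_eq_one hc)
    (orderOf_dvd_of_pow_eq_one hb))) (orderOf_dvd_of_pow_eq_one ha)

variable [Finite G] [hp : Fact p.Prime]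

theorem classify (hp2 : p ≠ 2) (hr : PRankLE p 2 G) {P : Subgroup G} (hP : IsPGroup p P) :
    IsMetacyclic P ∨ Type2 p P ∨ Type3 p P ∨ (p = 3 ∧ ∃ m, Nat.card P = p ^ (m + 2) ∧
      (⊤ : Subgroup P).lowerCentralSeries m ≠ ⊥) := by
  obtain ⟨n, hn⟩ := IsPGroup.iff_card.1 hP
  have hcl : ∀ x y z : P, closure ({x, y, z} : Set P) = ⊤ →
      closure ({(x : G), (y : G), (z : G)} : Set G) = P := fun x y z h => by
    have := congrArg (Subgroup.map P.subtype) h
    rwa [MonoidHom.map_closure, ← MonoidHom.range_eq_map, range_subtype, Set.image_insert_eq,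
      Set.image_insert_eq, Set.image_singleton] at this
  have hlt : ∀ k, ¬ p ^ (k + 3) ≤ p ^ (k + 2) := fun k h => by
    have := (Nat.pow_le_pow_iff_right hp.out.one_lt).1 h
    omega
  rcases Agent.S3888.result hp2 n hn (FT.BG4.pRankLE_subgroup hr P) with h | h | h | h
  · exact Or.inl h
  · obtain ⟨h3, x, y, z, h1, hx, hy, hz, hxz, hyz, hxy⟩ := h
    obtain ⟨k, rfl⟩ := Nat.exists_eq_add_of_le' h3
    have hx' : (x : G) ^ p = 1 := congrArg Subtype.val hx
    have hy' : (y : G) ^ p = 1 := congrArg Subtype.val hy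
    have hz' : (z : G) ^ p ^ (k + 1) = 1 := congrArg Subtype.val hz
    have hxz' : Commute (x : G) z := congrArg Subtype.val hxz
    have hyz' : Commute (y : G) z := congrArg Subtype.val hyz
    have hxy' : (x : G)⁻¹ * y * x = y * z ^ p ^ k := congrArg Subtype.val hxy
    refine Or.inr (Or.inl ⟨hn ▸ Nat.pow_le_pow_right hp.out.pos (by omega), x, y, z,
      (z : G) ^ p ^ k, hcl x y z h1, hx', hy', hxz', hyz', npow_mem_zpowers _ _,
      by rw [← pow_mul, ← pow_succ, hz'], fun hw => ?_, hxy'⟩)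
    have := card_closure_le hx' hy' hw hyz' (inv_mem_norm (by
      rw [hxy', hw, mul_one]; exact mem_sup_right (mem_zpowers _)) (by
      rw [mul_assoc, ← hxz'.eq, inv_mul_cancel_left]; exact mem_sup_left (mem_zpowers _)))
    rw [hcl x y z h1, hn] at this
    exact hlt k this
  · obtain ⟨h4, s, x, y, z, hs, h1, hx, hy, hz, hyz, hxy, hxz⟩ := h
    obtain ⟨k, rfl⟩ := Nat.exists_eq_add_of_le' h4
    have hx' : (x : G) ^ p = 1 := congrArg Subtype.val hx
    have hy' : (y : G) ^ p = 1 := congrArg Subtype.val hy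
    have hz' : (z : G) ^ p ^ (k + 2) = 1 := congrArg Subtype.val hz
    have hyz' : Commute (y : G) z := congrArg Subtype.val hyz
    have hxy' : (x : G)⁻¹ * y * x = y * z ^ (s * p ^ (k + 1)) := congrArg Subtype.val hxy
    have hxz' : (x : G)⁻¹ * z * x = y * z := congrArg Subtype.val hxz
    refine Or.inr (Or.inr (Or.inl ⟨x, y, z, (z : G) ^ (s * p ^ (k + 1)), k, hcl x y z h1, hx', hy',
      hyz', hz', by rw [mul_comm, pow_mul]; exact npow_mem_zpowers _ _, fun hw => ?_, hxy', hxz'⟩))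
    have hps : ¬ p ∣ s := by
      rintro ⟨j, rfl⟩
      rcases hs with hs | hs
      · exact hp.out.one_lt.ne' (Nat.eq_one_of_mul_eq_one_right hs)
      · exact hs ⟨0, by simp⟩
    have hw' : (z : G) ^ p ^ (k + 1) = 1 := mem_bot.1 (mem_of_pow_mem_of_pow_mem
      (hp.out.coprime_iff_not_dvd.2 hps) (by rw [← pow_mul, ← pow_succ, hz']; exact one_mem _)
      (by rw [← pow_mul, mul_comm, hw]; exact one_mem _))
    have := card_closure_le hx' hy' hw' hyz' (inv_mem_norm (by
      rw [hxy', hw, mul_one]; exact mem_sup_right (mem_zpowers _)) (by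
      rw [hxz']; exact mul_mem (mem_sup_right (mem_zpowers _)) (mem_sup_left (mem_zpowers _))))
    rw [hcl x y z h1, hn] at this
    exact hlt (k + 1) this
  · obtain ⟨h3, h2, h⟩ := h
    obtain ⟨m, rfl⟩ := Nat.exists_eq_add_of_le' h2
    exact Or.inr (Or.inr (Or.inr ⟨h3, m, hn, h⟩))

/-- Class at most two with derived subgroup of exponent `p`. -/
def Cl2 (p : ℕ) (P : Subgroup G) : Prop :=
  ⁅P, P⁆ ≤ centralizer (P : Set G) ∧ ∀ u ∈ ⁅P, P⁆, u ^ p = 1

omit [Finite G] hp in
theorem Cl2.pow_mem {P : Subgroup G} (h : Cl2 p P) : ∀ g ∈ P, g ^ p ∈ centralizer (P : Set G) := by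
  intro g hg u hu
  have h1 := commutator_mem_commutator hg hu
  refine (commutatorElement_eq_one_iff_mul_comm.1 ?_).symm
  rw [commutatorElement_pow_left_of_commute (h.1 h1 g hg).symm, h.2 _ h1]

omit [Finite G] in
theorem Cl2.mul_pow {P : Subgroup G} (h : Cl2 p P) (hp2 : p ≠ 2) {a b : G} (ha : a ∈ P)
    (hb : b ∈ P) : (a * b) ^ p = a ^ p * b ^ p := by
  have := mul_pow_critExp hp.out h.pow_mem h.1 a ha b hb
  rwa [critExp_of_ne hp2] at this

/-- `Ω₁(P)` for `P` of class two. -/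
def Cl2.om {P : Subgroup G} (h : Cl2 p P) (hp2 : p ≠ 2) : Subgroup G where
  carrier := {g | g ∈ P ∧ g ^ p = 1}
  one_mem' := ⟨one_mem _, one_pow _⟩
  mul_mem' := fun ha hb => ⟨mul_mem ha.1 hb.1, by rw [h.mul_pow hp2 ha.1 hb.1, ha.2, hb.2, one_mul]⟩
  inv_mem' := fun ha => ⟨inv_mem ha.1, by rw [inv_pow, ha.2, inv_one]⟩

omit [Finite G] hp in
theorem le_centralizer_closure {S : Set G} {c : G} (h : ∀ s ∈ S, s * c = c * s) :
    c ∈ centralizer (closure S : Set G) := by
  rw [centralizer_closure]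
  exact h

omit [Finite G] hp in
theorem Type2.spec {P : Subgroup G} (h : Type2 p P) : Cl2 p P ∧ ∃ a ∈ P, ∃ b ∈ P, ∃ c ∈ P,
    closure {a, b, c} = P ∧ a ^ p = 1 ∧ b ^ p = 1 ∧ c ∈ centralizer (P : Set G) ∧ ¬ Commute a b := by
  obtain ⟨-, a, b, c, w, rfl, ha, hb, hac, hbc, hw, hwp, hw1, hab⟩ := h
  have hc : c ∈ centralizer (closure {a, b, c} : Set G) := le_centralizer_closure (by
    rintro _ (rfl | rfl | rfl)
    exacts [hac, hbc, rfl])
  have hwc := zpowers_le.2 hc hw
  have hwa : a * w = w * a := hwc a (subset_closure (by simp))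
  have hwb : b * w = w * b := hwc b (subset_closure (by simp))
  have h1 : ⁅b, a⁆ = w := by
    calc ⁅b, a⁆ = a * (a⁻¹ * b * a) * b⁻¹ * a⁻¹ := by rw [commutatorElement_def]; group
      _ = a * (w * b) * b⁻¹ * a⁻¹ := by rw [hab, hwb]
      _ = w := by rw [mul_assoc a, mul_inv_cancel_right, hwa, mul_inv_cancel_right]
  have hn : ({a, b, c} : Set G) ⊆ normalizer (zpowers w : Set G) := fun s hs =>
    centralizer_le_normalizer _ (le_centralizer_iff.1 (zpowers_le.2 hwc) (subset_closure hs))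
  have h2 : ⁅closure ({a, b, c} : Set G), closure {a, b, c}⁆ ≤ zpowers w := by
    refine commutator_closure_closure_le hn hn ?_
    have e1 := commutatorElement_eq_one_iff_commute.2 hac
    have e2 := commutatorElement_eq_one_iff_commute.2 hbc
    have e3 := commutatorElement_eq_one_iff_commute.2 hac.symm
    have e4 := commutatorElement_eq_one_iff_commute.2 hbc.symm
    have e5 : ⁅a, b⁆ = w⁻¹ := by rw [← h1, commutatorElement_inv]
    rintro _ (rfl | rfl | rfl) _ (rfl | rfl | rfl) <;> simp [*]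
  refine ⟨⟨h2.trans (zpowers_le.2 hwc), fun u hu => ?_⟩, a, subset_closure (by simp), b,
    subset_closure (by simp), c, subset_closure (by simp), rfl, ha, hb, hc, fun h => hw1 ?_⟩
  · obtain ⟨j, rfl⟩ := h2 hu
    simp only
    rw [← zpow_natCast, ← zpow_mul, mul_comm, zpow_mul, zpow_natCast, hwp, one_zpow]
  · rw [← h1, commutatorElement_eq_one_iff_commute]
    exact h.symm

theorem index_frattini_le_of_closure {D : Subgroup G} (hD : IsPGroup p D) {a b : G}
    (h : closure {a, b} = D) : (frattini D).index ≤ p ^ 2 := by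
  classical
  have ha : a ∈ D := h ▸ subset_closure (by simp)
  have hb : b ∈ D := h ▸ subset_closure (by simp)
  refine (index_frattini_le_pow_card hD (T := {⟨a, ha⟩, ⟨b, hb⟩}) ?_).trans
    (Nat.pow_le_pow_right hp.out.pos Finset.card_le_two)
  apply map_injective D.subtype_injective
  rw [MonoidHom.map_closure, ← MonoidHom.range_eq_map, range_subtype, Finset.coe_pair,
    Set.image_pair]
  exact h

theorem two_gen (hp2 : p ≠ 2) (hr : PRankLE p 2 G) {D : Subgroup G} (hD : IsPGroup p D) :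
    (frattini D).index ≤ p ^ 2 ∨ Type2 p D := by
  rcases classify hp2 hr hD with h | h | h | ⟨-, m, h1, h2⟩
  · obtain ⟨a, b, -, h⟩ := FT.BG4.isMetacyclic_iff.1 h
    refine Or.inl (index_frattini_le_of_closure hD (a := a) (b := b) ?_)
    have := congrArg (Subgroup.map D.subtype) h
    rwa [Subgroup.map_sup, MonoidHom.map_zpowers, MonoidHom.map_zpowers, ← MonoidHom.range_eq_map,
      range_subtype, zpowers_eq_closure, zpowers_eq_closure, ← Subgroup.closure_union] at this
  · exact Or.inr h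
  · obtain ⟨a, b, c, w, k, h1, -, -, -, -, -, -, -, h2⟩ := h
    refine Or.inl (index_frattini_le_of_closure hD (a := a) (b := c) (le_antisymm ?_ ?_))
    · rw [← h1]
      exact closure_mono (Set.insert_subset_insert (Set.subset_insert _ _))
    · rw [← h1, closure_le]
      have ha : a ∈ closure ({a, c} : Set G) := subset_closure (by simp)
      have hc : c ∈ closure ({a, c} : Set G) := subset_closure (by simp)
      rintro _ (rfl | rfl | rfl)
      · exact ha
      · rw [← mul_inv_eq_iff_eq_mul.2 h2]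
        exact mul_mem (mul_mem (mul_mem (inv_mem ha) hc) ha) (inv_mem hc)
      · exact hc
  · exact Or.inl (MaxClass.index_commutator h1 h2 ▸
      index_antitone (commutator_le_frattini_of_isPGroup hD))

theorem iter_two_le_of_index (hG : IsPGroup p G) {D : Subgroup G} [D.Normal]
    (h : (frattini D).index ≤ p ^ 2) : iterCommutator D ⊤ 2 ≤ (frattini D).map D.subtype := by
  refine Hall.iter_le_of_card_le hG (map_subtype_le _) ?_
  rw [card_map_of_injective D.subtype_injective, ← (frattini D).index_mul_card]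
  exact Nat.mul_le_mul_right _ h

theorem iter_two_le (hp2 : p ≠ 2) (hG : IsPGroup p G) (hr : PRankLE p 2 G) (T : Subgroup G)
    [hT : T.Normal] : iterCommutator T ⊤ 2 ≤ (frattini T).map T.subtype := by
  have hTp := hG.to_subgroup T
  rcases two_gen hp2 hr hTp with h | h
  · exact iter_two_le_of_index hG h
  obtain ⟨h2, a, ha, b, hb, c, hc, hcl, hap, hbp, hcc, -⟩ := h.spec
  have hO : (h2.om hp2).Normal := ⟨fun u hu g => ⟨hT.conj_mem u hu.1 g, by
    rw [conj_pow, hu.2]; group⟩⟩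
  have hOp := hG.to_subgroup (h2.om hp2)
  have h3 := (iter_two_le_of_index hG (FT.BG4.index_frattini_le_sq hOp
    (FT.BG4.pRankLE_subgroup hr _) (FT.BG4.card_le_cube_of_exponent' (FT.BG4.pRankLE_subgroup hr _)
      fun u hu => hu.2))).trans (map_frattini_mono hTp fun u hu => hu.1)
  have h4 := (iter_two_le_of_index hG (D := T ⊓ centralizer (T : Set G))
    ((two_gen hp2 hr (hG.to_subgroup _)).resolve_right fun h => by
      obtain ⟨-, a, ha, b, hb, -, -, -, -, -, -, hab⟩ := h.spec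
      exact hab (hb.2 a ha.1))).trans (map_frattini_mono hTp inf_le_left)
  have h5 : T ≤ h2.om hp2 ⊔ (T ⊓ centralizer (T : Set G)) := by
    refine hcl.ge.trans ((closure_le _).2 ?_)
    rintro _ (rfl | rfl | rfl)
    exacts [mem_sup_left ⟨ha, hap⟩, mem_sup_left ⟨hb, hbp⟩, mem_sup_right ⟨hc, hcc⟩]
  exact (commutator_mono ((commutator_mono h5 le_rfl).trans
    (commutator_sup_left_le le_sup_left le_sup_right)) le_rfl).trans (commutator_sup_left_le h3 h4)

/-- For odd `p` and `p`-rank at most two, the normaliser of a Sylow `p`-subgroup controls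
transfer. -/
theorem pResidual_subgroupOf_normalizer (hp2 : p ≠ 2) (hr : PRankLE p 2 G) (S : Sylow p G) :
    (pResidual p G).subgroupOf (normalizer ((S : Subgroup G) : Set G)) =
      pResidual p (normalizer ((S : Subgroup G) : Set G)) := by
  by_contra hne
  obtain ⟨x, hx, T, hT1, hT2, -, hxT, z, hz, -, χ, h1⟩ :=
    exists_hom_iterate_ne_one S (isWeaklyClosed_sylow S) hne
  rw [sup_eq_left.mpr (zpowers_le.mpr hx)] at hT1 hT2
  have : (T.subgroupOf S).Normal := normal_subgroupOf_of_le_normalizer hT2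
  have h2 := map_mono (f := (S : Subgroup G).subtype)
    (iter_two_le hp2 S.isPGroup' (FT.BG4.pRankLE_subgroup hr _) (T.subgroupOf S))
  rw [PG.map_iterCommutator, map_map_frattini_of_isPGroup (S.isPGroup'.to_subgroup _),
    ← MonoidHom.range_eq_map, range_subtype] at h2
  generalize_proofs at h2
  have e := map_subgroupOf_eq_of_le hT1
  generalize (T.subgroupOf S).map (S : Subgroup G).subtype = T' at h2 e
  subst e
  have h3 := h2 (PG.iterCommutator_antitone hT2 (show 2 ≤ p - 1 by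
    have := hp.out.two_le
    omega) (iterate_commutator_mem_iterCommutator hxT hz (p - 1)))
  obtain ⟨y, hy, hy'⟩ := h3
  rw [← hy', show T'.subtype y = (y : G) from rfl, extOne_of_mem χ y.2] at h1
  refine h1 (frattini_le_of_commutator_le_of_pow_mem p χ.ker
    (Abelianization.commutator_subset_ker χ) (fun t => ?_) hy)
  rw [MonoidHom.mem_ker, map_pow]
  have := pow_card_eq_one' (x := χ t)
  simpa using this

/-- `P = [P, H]` is a normal `p`-subgroup containing the central element `x` of order `p`. -/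
structure Fix (p : ℕ) (P H : Subgroup G) (x : G) : Prop where
  ne : p ≠ 2
  pG : IsPGroup p P
  normal : P.Normal
  cop : (Nat.card H).Coprime p
  comm : ⁅P, H⁆ = P
  mem : x ∈ P
  ord : orderOf x = p
  cen : x ∈ center G
  rank : PRankLE p 2 G

namespace Fix

variable {P H : Subgroup G} {x : G} (h : Fix p P H x)
include h

theorem coprime {K : Subgroup G} (hK : K ≤ P) : (Nat.card H).Coprime (Nat.card K) := by
  obtain ⟨n, hn⟩ := IsPGroup.iff_card.1 (h.pG.to_le hK)
  exact hn ▸ h.cop.pow_right n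

theorem cent_le : P ⊓ centralizer (H : Set G) ≤ ⁅P, P⁆ :=
  have := h.normal
  FT.coprime_cent_sub_der1 le_normalizer_of_normal (h.coprime le_rfl).symm h.comm

omit [Finite G] in
theorem ne_one : x ≠ 1 := fun e => hp.out.one_lt.ne (by rw [← h.ord, e, orderOf_one])

theorem not_comm : ¬ IsMulCommutative P := fun hc => h.ne_one (mem_bot.1
  ((commutator_eq_bot_iff_le_centralizer.2 (le_centralizer_iff_isMulCommutative.2 hc)).le
    (h.cent_le ⟨h.mem, center_le_centralizer _ h.cen⟩)))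

theorem omega {v : G} (hv : v ∈ P) (hvp : v ^ p = 1) (hvc : v ∉ centralizer (P : Set G)) {u : G}
    (hu : u ∈ centralizer (P : Set G)) (hup : u ^ p = 1) : u ∈ zpowers x := by
  by_contra hne
  exact hvc (sup_le (zpowers_le.2 hu) (zpowers_le.2 (center_le_centralizer _ h.cen))
    (Agent.S3049.mem_sup_of_rank h.rank hup h.ord hvp hne (mem_center_iff.1 h.cen u) (hu v hv).symm
      (mem_center_iff.1 h.cen v).symm))

theorem exp (h2 : Cl2 p P)
    (hΩ : ∀ u ∈ P ⊓ centralizer (P : Set G), u ^ p = 1 → u ∈ zpowers x) : ∀ g ∈ P, g ^ p = 1 := by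
  have := h.normal
  have : IsMulCommutative (P ⊓ centralizer (P : Set G) : Subgroup G) :=
    ⟨⟨fun a b => Subtype.ext (b.2.2 a a.2.1)⟩⟩
  have h1 := Coprime.le_centralizer_of_pow_prime_eq_one (V := P ⊓ centralizer (P : Set G))
    h.pG.to_inf_left le_normalizer_of_normal h.cop fun u hu hup =>
      zpowers_le.2 (center_le_centralizer _ h.cen) (hΩ u hu hup)
  have h3 : ⁅P, H⁆ ≤ h2.om h.ne := by
    rw [commutator_le]
    intro g hg k hk
    have h4 : k * g⁻¹ * k⁻¹ ∈ P := h.normal.conj_mem _ (inv_mem hg) k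
    have e : ⁅g, k⁆ = g * (k * g⁻¹ * k⁻¹) := by rw [commutatorElement_def]; group
    rw [e]
    refine ⟨mul_mem hg h4, ?_⟩
    rw [h2.mul_pow h.ne hg h4, conj_pow,
      ← h1 hk _ ⟨pow_mem (inv_mem hg) p, h2.pow_mem _ (inv_mem hg)⟩]
    group
  exact fun g hg => (h3 (h.comm.ge hg)).2

theorem not_type3 : ¬ Type3 p P := by
  rintro ⟨a, b, c, w, k, hcl, ha, hb, hbc, hc, hw, hw1, hab, hac⟩
  have := h.normal
  set A := zpowers c ⊔ zpowers b with hA
  have hbA : b ∈ A := mem_sup_right (mem_zpowers b)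
  have hcA : c ∈ A := mem_sup_left (mem_zpowers c)
  have hwA : w ∈ A := zpowers_le.2 (pow_mem hcA _) hw
  have haA : a ∈ normalizer (A : Set G) := inv_mem_norm (hab ▸ mul_mem hbA hwA)
    (hac ▸ mul_mem hbA hcA)
  have hP : P = A ⊔ zpowers a := hcl.symm.trans (closure_three a b c)
  have hAP : A ≤ P := hP ▸ le_sup_left
  have haP : a ∈ P := hP ▸ mem_sup_right (mem_zpowers a)
  have hAA : A ≤ centralizer (A : Set G) := by
    have h1 : ∀ u : G, Commute c u → Commute b u → u ∈ centralizer (A : Set G) := fun u h1 h2 =>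
      zpowers_le.1 (le_centralizer_iff.1 (sup_le (zpowers_le.2 (by
        rintro _ ⟨j, rfl⟩; exact (h1.symm.zpow_left j).eq)) (zpowers_le.2 (by
        rintro _ ⟨j, rfl⟩; exact (h2.symm.zpow_left j).eq))))
    exact sup_le (zpowers_le.2 (h1 c (Commute.refl c) hbc)) (zpowers_le.2 (h1 b hbc.symm (Commute.refl b)))
  have hAc : IsMulCommutative A := le_centralizer_iff_isMulCommutative.1 hAA
  have hcm : ∀ {u v : G}, u ∈ A → v ∈ A → Commute u v := fun hu hv => hAA hv _ hu
  let K : ℕ → Subgroup G → Subgroup G := fun m X =>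
    { carrier := {u | u ∈ A ∧ u ^ m ∈ X}
      one_mem' := ⟨one_mem _, by rw [one_pow]; exact one_mem _⟩
      mul_mem' := fun hu hv => ⟨mul_mem hu.1 hv.1, by
        rw [(hcm hu.1 hv.1).mul_pow]; exact mul_mem hu.2 hv.2⟩
      inv_mem' := fun hu => ⟨inv_mem hu.1, by rw [inv_pow]; exact inv_mem hu.2⟩ }
  have hzp : ∀ u ∈ zpowers (c ^ p ^ (k + 1)), u ^ p = 1 := by
    rintro _ ⟨j, rfl⟩
    simp only
    rw [← zpow_natCast, ← zpow_mul, mul_comm, zpow_mul, zpow_natCast, ← pow_mul, ← pow_succ, hc,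
      one_zpow]
  have hbm : b ^ p ^ (k + 1) = 1 := by rw [pow_succ', pow_mul, hb, one_pow]
  have hPA : P ≤ normalizer (A : Set G) := hP ▸ sup_le le_normalizer (zpowers_le.2 haA)
  have hPK : P ≤ normalizer (K p ⊥ : Set G) := fun g hg => mem_norm fun u hu =>
    ⟨(mem_normalizer_iff.1 (hPA hg) u).1 hu.1, by
      rw [conj_pow, mem_bot.1 hu.2]; simp⟩
  have hbK : b ∈ K p ⊥ := ⟨hbA, hb⟩
  have hD : ⁅P, P⁆ ≤ K p ⊥ := by
    have hn : ({a, b, c} : Set G) ⊆ normalizer (K p ⊥ : Set G) := fun s hs =>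
      hPK (hcl ▸ subset_closure hs)
    have e1 : ⁅b, a⁆ ∈ K p ⊥ := by
      have := (mem_normalizer_iff.1 (hPK haP) _).1 hbK
      exact (by rw [commutatorElement_def]; group : b * (a * b * a⁻¹)⁻¹ = ⁅b, a⁆) ▸
        mul_mem hbK (inv_mem this)
    have e2 : ⁅c, a⁆ ∈ K p ⊥ := by
      have := (mem_normalizer_iff.1 (hPK haP) _).1 hbK
      have e : ⁅c, a⁆ = a * b * a⁻¹ := by
        rw [← mul_inv_eq_iff_eq_mul.2 hac, commutatorElement_def]; group
      exact e ▸ this
    have e3 : ⁅a, b⁆ ∈ K p ⊥ := commutatorElement_inv b a ▸ inv_mem e1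
    have e4 : ⁅a, c⁆ ∈ K p ⊥ := commutatorElement_inv c a ▸ inv_mem e2
    have e5 := commutatorElement_eq_one_iff_commute.2 hbc
    have e6 := commutatorElement_eq_one_iff_commute.2 hbc.symm
    rw [← hcl]
    refine commutator_closure_closure_le hn hn ?_
    rintro _ (rfl | rfl | rfl) _ (rfl | rfl | rfl) <;> simp [*]
  have hnab : ¬ Commute a b := fun e => hw1 (by
    rw [mul_assoc, ← e.eq, inv_mul_cancel_left] at hab
    exact left_eq_mul.1 hab)
  have hbD : b ∈ ⁅P, P⁆ := by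
    have e : b = ⁅a⁻¹, c⁆ := by
      rw [← mul_inv_eq_iff_eq_mul.2 hac, commutatorElement_def, inv_inv]
    exact e ▸ commutator_mem_commutator (inv_mem haP) (hAP hcA)
  have hAeq : A = P ⊓ centralizer ((⁅P, P⁆ : Subgroup G) : Set G) := by
    refine le_antisymm (le_inf hAP (hAA.trans (centralizer_le fun u hu => (hD hu).1))) ?_
    rintro g ⟨hg, hgc⟩
    obtain ⟨u, hu, _, ⟨j, rfl⟩, rfl⟩ := (mem_sup_of_le_normalizer (zpowers_le.2 haA)).1 (hP ▸ hg)
    refine mul_mem hu ?_
    have h1 : a ^ j ∈ centralizer {b} := by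
      have h2 : u * a ^ j ∈ centralizer {b} := mem_centralizer_singleton_iff.2 (hgc b hbD).symm
      have h3 : u ∈ centralizer {b} := mem_centralizer_singleton_iff.2 (hcm hu hbA)
      simpa using mul_mem (inv_mem h3) h2
    rcases PG.eq_or_eq_of_card_eq_prime_mul hp.out (M := ⊥) (K := zpowers a)
      (L := zpowers a ⊓ centralizer {b}) (by
        rw [card_bot, mul_one, Nat.card_zpowers]
        exact orderOf_eq_prime ha fun e => hnab (e ▸ Commute.one_left b)) bot_le inf_le_left with e | e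
    · simp only
      rw [show a ^ j = 1 from mem_bot.1 (e ▸ ⟨⟨j, rfl⟩, h1⟩)]
      exact one_mem _
    · exact absurd (mem_centralizer_singleton_iff.1 (e.ge (mem_zpowers a)).2) hnab
  have hAn : A.Normal := hAeq ▸ inferInstance
  have hw0 : c ^ p ^ (k + 1) ∈ zpowers x := by
    refine h.omega (hAP hbA) hb (fun e => hnab (e a haP)) ?_ (hzp _ (mem_zpowers _))
    rw [← hcl]
    refine le_centralizer_closure ?_
    have := conj_pow (a := a⁻¹) (b := c) (i := p ^ (k + 1))
    rw [inv_inv, hac, hbc.mul_pow, hbm, one_mul] at this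
    rintro _ (rfl | rfl | rfl)
    · conv_lhs => rw [this]
      group
    · exact (hbc.pow_right _).eq
    · exact ((Commute.refl _).pow_right _).eq
  have h5 : A ≤ K (p ^ (k + 1)) (zpowers x) :=
    sup_le (zpowers_le.2 ⟨hcA, hw0⟩) (zpowers_le.2 ⟨hbA, hbm ▸ one_mem _⟩)
  have h6 : A ≤ K (p ^ (k + 1)) ⊥ := by
    rw [← Coprime.commutator_sup_centralizer (K := A) (A := H) le_normalizer_of_normal
      (h.coprime hAP) (Or.inr (isSolvable_of_isPGroup (h.pG.to_le hAP)))]
    refine sup_le (commutator_le.2 fun u hu g hg => ?_) fun u hu => ⟨hu.1, ?_⟩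
    · have h4 : g * u⁻¹ * g⁻¹ ∈ A := hAn.conj_mem _ (inv_mem hu) g
      have e : ⁅u, g⁆ = u * (g * u⁻¹ * g⁻¹) := by rw [commutatorElement_def]; group
      rw [e]
      refine ⟨mul_mem hu h4, mem_bot.2 ?_⟩
      rw [(hcm hu h4).mul_pow, conj_pow,
        mem_center_iff.1 (zpowers_le.2 h.cen (h5 (inv_mem hu)).2) g]
      group
    · rw [pow_succ', pow_mul, mem_bot.1 (hD (h.cent_le ⟨hAP hu.1, hu.2⟩)).2, one_pow]
      exact one_mem _
  obtain ⟨j, rfl⟩ := hw
  exact hw1 (by simp only; rw [mem_bot.1 (h6 hcA).2, one_zpow])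

end Fix

omit [Finite G] hp in
theorem inv_of_card_three {K L : Subgroup G} [K.Normal] [hL : L.Normal] (hKL : K ≤ L)
    (hc : Nat.card L = 3 * Nat.card K) [Finite L] {h u₀ : G} (hu₀ : u₀ ∈ L)
    (hne : h * u₀ * h⁻¹ * u₀⁻¹ ∉ K) {u : G} (hu : u ∈ L) :
    (h : G ⧸ K) * u * (h : G ⧸ K)⁻¹ = (u : G ⧸ K)⁻¹ ∧ (u : G ⧸ K) ^ 3 = 1 := by
  have : Fact (Nat.Prime 3) := ⟨Nat.prime_three⟩
  have h3 : Nat.card (L.map (QuotientGroup.mk' K)) = 3 := by
    rw [← relIndex_ker, QuotientGroup.ker_mk']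
    have := PG.relIndex_mul_card hKL
    rw [hc] at this
    have hK : Finite K := Finite.of_injective _ (inclusion_injective hKL)
    exact Nat.eq_of_mul_eq_mul_right Nat.card_pos this
  have hne' : (h : G ⧸ K) * u₀ * (h : G ⧸ K)⁻¹ ≠ u₀ := fun e => hne (by
    rw [← QuotientGroup.eq_one_iff, QuotientGroup.mk_mul, QuotientGroup.mk_mul,
      QuotientGroup.mk_mul, QuotientGroup.mk_inv, QuotientGroup.mk_inv, e, mul_inv_cancel])
  have h1 : (u₀ : G ⧸ K) ≠ 1 := fun e => hne' (by rw [e]; simp)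
  have hcube : ∀ v ∈ L, (v : G ⧸ K) ^ 3 = 1 := fun v hv => congrArg Subtype.val
    (h3 ▸ pow_card_eq_one' (x := (⟨v, v, hv, rfl⟩ : L.map (QuotientGroup.mk' K))))
  have hz : ∀ v ∈ L, (v : G ⧸ K) = 1 ∨ (v : G ⧸ K) = u₀ ∨ (v : G ⧸ K) = (u₀ : G ⧸ K)⁻¹ := by
    intro v hv
    have hf : Finite (L.map (QuotientGroup.mk' K)) := Nat.finite_of_card_ne_zero (by omega)
    obtain ⟨j, hj⟩ := mem_zpowers_of_prime_card h3
      (g := (⟨u₀, u₀, hu₀, rfl⟩ : L.map (QuotientGroup.mk' K))) (g' := ⟨v, v, hv, rfl⟩)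
      (fun e => h1 (congrArg Subtype.val e))
    have hj' : (u₀ : G ⧸ K) ^ j = v := congrArg Subtype.val hj
    have e3 : (u₀ : G ⧸ K) ^ (3 : ℤ) = 1 := by rw [← hcube u₀ hu₀, ← zpow_natCast]; rfl
    rw [← hj', ← Int.mul_ediv_add_emod j 3, zpow_add, zpow_mul, e3, one_zpow, one_mul]
    have : j % 3 = 0 ∨ j % 3 = 1 ∨ j % 3 = 2 := by omega
    rcases this with e | e | e <;> rw [e]
    · exact Or.inl (zpow_zero _)
    · exact Or.inr (Or.inl (zpow_one _))
    · refine Or.inr (Or.inr (eq_inv_of_mul_eq_one_left ?_))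
      rw [← e3, ← zpow_add_one]
      rfl
  have h2 : (h : G ⧸ K) * u₀ * (h : G ⧸ K)⁻¹ = (u₀ : G ⧸ K)⁻¹ := by
    rcases hz _ (hL.conj_mem u₀ hu₀ h) with e | e | e
    · exact absurd (by simpa using e) h1
    · exact absurd e hne'
    · exact e
  refine ⟨?_, hcube u hu⟩
  rcases hz u hu with e | e | e <;> rw [e]
  · simp
  · exact h2
  · rw [← conj_inv, h2]

theorem Fix.odd {P H : Subgroup G} {x : G} (h : Fix 3 P H x) {m : ℕ}
    (hc : Nat.card P = 3 ^ (m + 2 + 2)) (hcl : (⊤ : Subgroup P).lowerCentralSeries (m + 2) ≠ ⊥) :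
    Odd m := by
  have : Fact (Nat.Prime 3) := ⟨Nat.prime_three⟩
  have := h.normal
  have hγ : ∀ i ≤ m + 2, Nat.card (P.lowerCentralSeries (i + 1)) = 3 ^ (m + 2 - i) := fun i hi => by
    rw [← top_subtype_lowerCentralSeries, card_map_of_injective P.subtype_injective,
      MaxClass.card_lowerCentralSeries hc hcl hi]
  set M := P ⊓ commLe (P.lowerCentralSeries 1) (P.lowerCentralSeries 3) with hM
  have hMn : M.Normal := ⟨fun u hu g => ⟨h.normal.conj_mem u hu.1 g,
    le_normalizer_of_normal (K := ⊤) trivial, fun c hc => by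
      have h1 := (inferInstance : (P.lowerCentralSeries 3).Normal).conj_mem _
        (hu.2.2 _ ((inferInstance : (P.lowerCentralSeries 1).Normal).conj_mem c hc g⁻¹)) g
      convert h1 using 1
      simp only [commutatorElement_def]
      group⟩⟩
  have hDM : P.lowerCentralSeries 1 ≤ M := le_inf (lowerCentralSeries_le_self P 1)
    (le_commLe_iff.2 ⟨le_normalizer_of_normal,
      commutator_lowerCentralSeries_lowerCentralSeries_le P 1 1⟩)
  have hMP : M < P := lt_of_le_of_ne inf_le_left fun e => by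
    have h1 := (le_commLe_iff.1 (e.ge.trans inf_le_right)).2
    rw [commutator_comm] at h1
    have h2 := card_le_of_le h1
    rw [← Subgroup.lowerCentralSeries_succ, hγ 1 (by omega), hγ 2 (by omega)] at h2
    have := (Nat.pow_le_pow_iff_right (by norm_num)).1 h2
    omega
  have hidx : M.relIndex P ≤ 3 := by
    let f := QuotientGroup.mk' ((⊤ : Subgroup P).lowerCentralSeries 3)
    have h1 := ClassNum.card_eq_card_map_mul f ((⊤ : Subgroup P).lowerCentralSeries 1)
    rw [QuotientGroup.ker_mk', inf_eq_right.2 (Subgroup.lowerCentralSeries_antitone _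
      (show 1 ≤ 3 by norm_num)),
      MaxClass.card_lowerCentralSeries hc hcl (i := 0) (by omega),
      MaxClass.card_lowerCentralSeries hc hcl (i := 2) (by omega), Nat.sub_zero, Nat.add_sub_cancel,
      pow_add, mul_comm] at h1
    have h2 := FT.BG4.index_centralizer_le (h.pG.to_quotient _)
      (((⊤ : Subgroup P).lowerCentralSeries 1).map f)
      (Nat.eq_of_mul_eq_mul_right (by positivity) h1).ge
    rw [← index_comap_of_surjective _ (QuotientGroup.mk'_surjective _)] at h2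
    refine le_trans (index_antitone fun g hg => ⟨g.2, le_normalizer_of_normal (K := ⊤) trivial,
      fun c hc => ?_⟩) h2
    rw [← top_subtype_lowerCentralSeries] at hc ⊢
    obtain ⟨c, hc, rfl⟩ := hc
    refine ⟨⁅g, c⁆, (QuotientGroup.eq_one_iff _).1 ?_, rfl⟩
    exact commutatorElement_eq_one_iff_mul_comm.2 (hg (f c) ⟨c, hc, rfl⟩).symm
  have hPM : Nat.card P = 3 * Nat.card M := by
    refine le_antisymm ?_ (PG.prime_mul_card_le_of_lt h.pG hMP)
    rw [← PG.relIndex_mul_card hMP.le]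
    exact Nat.mul_le_mul_right _ hidx
  have hMD : Nat.card M = 3 * Nat.card (P.lowerCentralSeries 1) := by
    rw [hγ 0 (by omega), Nat.sub_zero]
    refine Nat.eq_of_mul_eq_mul_left (show 0 < 3 by norm_num) ?_
    rw [← hPM, hc]
    ring
  obtain ⟨k, hk1, hk2⟩ : ∃ k : G, (∃ u ∈ P, k * u * k⁻¹ * u⁻¹ ∉ M) ∧
      ∃ u ∈ M, k * u * k⁻¹ * u⁻¹ ∉ P.lowerCentralSeries 1 := by
    have h1 : ¬ H ≤ commLe P M := fun e => by
      have := (le_commLe_iff.1 e).2
      rw [commutator_comm, h.comm] at this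
      exact not_le_of_gt hMP this
    have h2 : ¬ H ≤ commLe M (P.lowerCentralSeries 1) := fun e => by
      have h3 : M ≤ P.lowerCentralSeries 1 := fun u hu => by
        obtain ⟨v, hv, h4⟩ := Coprime.exists_mul_mem_centralizer' (A := H)
          (H := P.lowerCentralSeries 1) le_normalizer_of_normal
          (h.coprime (lowerCentralSeries_le_self P 1))
          (Or.inr (isSolvable_of_isPGroup (h.pG.to_le (lowerCentralSeries_le_self P 1))))
          (g := u) fun a ha => (e ha).2 u hu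
        have h5 : v * u ∈ P.lowerCentralSeries 1 :=
          h.cent_le ⟨mul_mem (lowerCentralSeries_le_self P 1 hv) hu.1, h4⟩
        simpa using mul_mem (inv_mem hv) h5
      have h4 := card_le_of_le h3
      have : 0 < Nat.card (P.lowerCentralSeries 1) := Nat.card_pos
      omega
    obtain ⟨a, -, ha⟩ := SetLike.not_le_iff_exists.1 h1
    obtain ⟨b, -, hb⟩ := SetLike.not_le_iff_exists.1 h2
    have key : ∃ k, k ∉ commLe P M ∧ k ∉ commLe M (P.lowerCentralSeries 1) := by
      by_cases h3 : a ∈ commLe M (P.lowerCentralSeries 1)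
      · by_cases h4 : b ∈ commLe P M
        · exact ⟨a * b, fun e => ha (by simpa using mul_mem e (inv_mem h4)),
            fun e => hb (by simpa using mul_mem (inv_mem h3) e)⟩
        · exact ⟨b, h4, hb⟩
      · exact ⟨a, ha, h3⟩
    obtain ⟨k, h3, h4⟩ := key
    refine ⟨k, ?_, ?_⟩
    · by_contra! e
      exact h3 ⟨le_normalizer_of_normal (K := ⊤) trivial, e⟩
    · by_contra! e
      exact h4 ⟨le_normalizer_of_normal (K := ⊤) trivial, e⟩
  obtain ⟨u₁, hu₁, hk1⟩ := hk1
  obtain ⟨u₂, hu₂, hk2⟩ := hk2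
  have hinv : ∀ g ∈ P, (g ^ 8)⁻¹ * (MulAut.conj (k ^ 3)).toMonoidHom g ∈ P.lowerCentralSeries 1 := by
    intro g hg
    obtain ⟨e1, e2⟩ := inv_of_card_three hMP.le hPM hu₁ hk1 hg
    have h1 : k * g * k⁻¹ * g ∈ M := by
      rw [← QuotientGroup.eq_one_iff, QuotientGroup.mk_mul, QuotientGroup.mk_mul,
        QuotientGroup.mk_mul, QuotientGroup.mk_inv, e1, inv_mul_cancel]
    have h2 : g ^ 3 ∈ M := by rw [← QuotientGroup.eq_one_iff, QuotientGroup.mk_pow, e2]
    obtain ⟨e3, e4⟩ := inv_of_card_three hDM hMD hu₂ hk2 h1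
    obtain ⟨-, e5⟩ := inv_of_card_three hDM hMD hu₂ hk2 h2
    have e6 : Commute (g : G ⧸ P.lowerCentralSeries 1) (k * g * k⁻¹ * g : G) := by
      rw [← commutatorElement_eq_one_iff_commute]
      exact (QuotientGroup.eq_one_iff ⁅g, k * g * k⁻¹ * g⁆).2 (commutator_mem_commutator hg h1.1)
    have e7 : (k : G ⧸ P.lowerCentralSeries 1) * g * (k : G ⧸ P.lowerCentralSeries 1)⁻¹ =
        (k * g * k⁻¹ * g : G) * (g : G ⧸ P.lowerCentralSeries 1)⁻¹ := by
      simp only [QuotientGroup.mk_mul, QuotientGroup.mk_inv, mul_inv_cancel_right]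
    rw [← QuotientGroup.eq_one_iff]
    simp only [MulEquiv.coe_toMonoidHom, MulAut.conj_apply, QuotientGroup.mk_mul,
      QuotientGroup.mk_inv, QuotientGroup.mk_pow]
    rw [QuotientGroup.mk_pow, ← pow_mul] at e5
    generalize ((k * g * k⁻¹ * g : G) : G ⧸ P.lowerCentralSeries 1) = w at e3 e4 e6 e7
    generalize (k : G ⧸ P.lowerCentralSeries 1) = K at *
    generalize (g : G ⧸ P.lowerCentralSeries 1) = y at *
    have f1 : K * y⁻¹ * K⁻¹ = y * w⁻¹ := by rw [← conj_inv, e7]; group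
    have f2 : K * w⁻¹ * K⁻¹ = w := by rw [← conj_inv, e3, inv_inv]
    have f3 : K * (K * y * K⁻¹) * K⁻¹ = w⁻¹ * (y * w⁻¹) := by rw [e7, ← conj_mul, e3, f1]
    have f4 : K ^ 3 * y * (K ^ 3)⁻¹ = w * (w * y⁻¹ * w) := by
      calc K ^ 3 * y * (K ^ 3)⁻¹ = K * (K * (K * y * K⁻¹) * K⁻¹) * K⁻¹ := by
            simp only [pow_succ, pow_zero]; group
        _ = _ := by rw [f3, ← conj_mul, ← conj_mul, f2, e7]
    rw [f4, mul_assoc w y⁻¹, e6.inv_left.eq]
    calc (y ^ 8)⁻¹ * (w * (w * (w * y⁻¹))) = (y ^ 8)⁻¹ * w ^ 3 * y⁻¹ := by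
          simp only [pow_succ, pow_zero]; group
      _ = (y ^ (3 * 3))⁻¹ := by rw [e4]; group
      _ = 1 := by rw [e5, inv_one]
  have hx : x ∈ P.lowerCentralSeries (m + 2) := by
    rw [← top_subtype_lowerCentralSeries, ← MaxClass.center_eq hc hcl (by omega)]
    exact ⟨⟨x, h.mem⟩, mem_center_iff.2 fun g => Subtype.ext (mem_center_iff.1 h.cen g), rfl⟩
  have h1 := Fus.Ess.pow_mod_lcs _ hinv (m + 2) x hx
  rw [card_eq_one.1 ((hγ (m + 2) le_rfl).trans (by simp)), mem_bot, inv_mul_eq_one] at h1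
  simp only [MulEquiv.coe_toMonoidHom, MulAut.conj_apply] at h1
  rw [mem_center_iff.1 h.cen, mul_inv_cancel_right] at h1
  have h2 : 8 ^ (m + 2 + 1) ≡ 1 [MOD 3] := by
    rw [← h.ord, ← pow_eq_pow_iff_modEq, h1, pow_one]
  by_contra hodd
  obtain ⟨j, rfl⟩ := Nat.not_odd_iff_even.1 hodd
  have h3 : 8 ^ (j + j + 2 + 1) ≡ 2 [MOD 3] := by
    rw [show j + j + 2 + 1 = 2 * (j + 1) + 1 by ring, pow_succ, pow_mul]
    have : (8 ^ 2) ^ (j + 1) ≡ 1 ^ (j + 1) [MOD 3] := Nat.ModEq.pow _ (by decide)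
    rw [one_pow] at this
    exact this.mul (show 8 ≡ 2 [MOD 3] by decide)
  exact absurd (h2.symm.trans h3) (by decide)

theorem Fix.structure {P H : Subgroup G} {x : G} (h : Fix p P H x) :
    (IsExtraspecial p P ∧ Nat.card P = p ^ 3 ∧ ∀ y ∈ P, y ^ p = 1) ∨
      (p = 3 ∧ ∃ k : ℕ, 2 ≤ k ∧ Nat.card P = 3 ^ (2 * k + 1) ∧ Group.nilpotencyClass P = 2 * k) := by
  have := h.normal
  rcases classify h.ne h.rank h.pG with h1 | h1 | h1 | ⟨rfl, m, h1, h2⟩
  · exact absurd (h.comm ▸ (FT.coprime_metacyclic_cent_sdprod hp.out h.ne h.pG h1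
      le_normalizer_of_normal h.cop).1) h.not_comm
  · obtain ⟨h2, a, ha, b, hb, -, -, -, hap, -, -, hab⟩ := h1.spec
    have h3 := h.exp h2 fun u hu => h.omega ha hap (fun e => hab (e b hb).symm) hu.2
    have h4 := le_antisymm
      (FT.BG4.card_le_cube_of_exponent' (FT.BG4.pRankLE_subgroup h.rank P) h3) h1.1
    exact Or.inl ⟨FT.BG4.p3group_extraspecial h4 h.not_comm, h4, h3⟩
  · exact absurd h1 h.not_type3
  · rcases m with _ | _ | m
    · exact absurd (IsPGroup.isMulCommutative_of_card_eq_prime_sq h1) h.not_comm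
    · refine Or.inl ⟨FT.BG4.p3group_extraspecial h1 h.not_comm, h1, ?_⟩
      have h3 : P ⊓ centralizer (P : Set G) = zpowers x := by
        refine (eq_of_le_of_card_ge (zpowers_le.2 (mem_inf.2 ⟨h.mem, center_le_centralizer _ h.cen⟩)) ?_).symm
        rw [Nat.card_zpowers, h.ord, ← MaxClass.card_center h1 h2 le_rfl,
          ← card_map_of_injective P.subtype_injective]
        exact card_le_of_le fun u hu => ⟨⟨u, hu.1⟩, mem_center_iff.2 fun g =>
          Subtype.ext (hu.2 g g.2), rfl⟩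
      have h4 : ⁅P, P⁆ ≤ P ⊓ centralizer (P : Set G) := by
        rw [← Subgroup.map_subtype_commutator, ← top_lowerCentralSeries_one,
          ← MaxClass.center_eq h1 h2 le_rfl]
        rintro _ ⟨u, hu, rfl⟩
        exact ⟨u.2, fun g hg => congrArg Subtype.val (mem_center_iff.1 hu ⟨g, hg⟩)⟩
      refine h.exp ⟨h4.trans inf_le_right, fun u hu => ?_⟩ fun u hu _ => h3 ▸ hu
      exact orderOf_dvd_iff_pow_eq_one.1 (h.ord ▸ orderOf_dvd_of_mem_zpowers (h3 ▸ h4 hu))
    · obtain ⟨j, rfl⟩ := h.odd h1 h2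
      exact Or.inr ⟨rfl, j + 2, by omega, by rw [h1]; ring_nf,
        (nilpotencyClass_eq_iff_lowerCentralSeries_ne_bot h1).2 h2⟩

end Cfsg.Lib.Trans.RankTwo
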