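import Cfsg.Agent.Trans.StableQuot
import Cfsg.Agent.Trans.StableModel
import Cfsg.Agent.Solv.PowCoset
import Cfsg.Agent.Solv.Schur

/-!
The results of `Trans/StableQuot` for every odd prime: `Z(J(S))` controls strong fusion in every
`p`-stable group, and the fusion system of such a group is constrained.
-/

set_option autoImplicit false

namespace Cfsg.Lib.Trans

open Subgroup Matrix Cfsg.Lib.Solv Cfsg.Lib.Local
open scoped commutatorElement

universe u

theorem conj_eq_of_mul_pow_odd {A : Type*} [Group A] {a b : A} (ha : a * a = 1) (hb : b * b = 1)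
    {m : ℕ} (h : (a * b) ^ (2 * m + 1) = 1) : (a * b) ^ m * a * ((a * b) ^ m)⁻¹ = b := by
  have h1 : b * (a * b)⁻¹ * b⁻¹ = a * b := by
    rw [_root_.mul_inv_rev, inv_eq_of_mul_eq_one_right ha, inv_eq_of_mul_eq_one_right hb,
      ← mul_assoc, hb, one_mul]
  have h2 : b * ((a * b) ^ m)⁻¹ = (a * b) ^ m * b := by
    rw [← inv_pow, ← h1, conj_pow, h1, inv_mul_cancel_right]
  calc _ = (a * b) ^ m * (a * b) * (b * ((a * b) ^ m)⁻¹) := by
        rw [mul_assoc _ (a * b), mul_assoc a, ← mul_assoc b, hb, one_mul, mul_assoc]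
    _ = (a * b) ^ (2 * m + 1) * b := by rw [h2, ← mul_assoc, ← pow_succ, ← pow_add]; congr 2; ring
    _ = b := by rw [h, one_mul]

variable {p : ℕ} [hp : Fact p.Prime]

/-- From a natural `SL₂(p)`-module `V / D` with `D` central and fixed by a normal subgroup that
inverts `V / D`, extract a subgroup on which the transvections act quadratically. -/
theorem exists_quadratic_of_natural (hp2 : p ≠ 2) {M V : Type*} [Group M] [Group V]
    (hV : IsPGroup p V) (ψ : M →* SpecialLinearGroup (Fin 2) (ZMod p)) (θ : M →* MulAut V)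
    (π : V →* Multiplicative (Fin 2 → ZMod p)) (hπ : Function.Surjective π)
    (he : ∀ m v, (π (θ m v)).toAdd = (ψ m).1 *ᵥ (π v).toAdd) (R : Subgroup M) [R.Normal]
    {t₀ : M} (ht₀ : t₀ ∈ R) (ht : ψ t₀ = -1) (hD : ∀ m ∈ R, ∀ e ∈ π.ker, θ m e = e)
    (hZ : π.ker ≤ center V) : ∃ (M₁ : Subgroup M) (E : Subgroup V), M₁.map ψ = ψ.range ∧
      (∀ m ∈ M₁, ∀ v ∈ E, θ m v ∈ E) ∧ E.map π = ⊤ ∧ ∀ y ∈ M₁, (ψ y).1 = !![1, 1; 0, 1] →
      ∀ v ∈ E, θ y (v * (θ y v)⁻¹) = v * (θ y v)⁻¹ := by
  obtain ⟨m, hm⟩ := hp.out.odd_of_ne_two hp2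
  have hk : ∀ {v}, v ∈ π.ker ↔ (π v).toAdd = 0 := MonoidHom.mem_ker
  have hc : ∀ {d}, d ∈ π.ker → ∀ v, v * d = d * v := fun hd => mem_center_iff.1 (hZ hd)
  have hsq : ∀ {C : Subgroup V} {x : V}, x ^ 2 ∈ C → x ∈ C := fun {C x} h => by
    obtain ⟨k, hk⟩ := hV x
    exact mem_of_pow_mem_of_pow_mem ((Nat.coprime_primes Nat.prime_two hp.out).2 hp2.symm
      |>.pow_right k) h (hk ▸ C.one_mem)
  have hpow : ∀ s ∈ R, ψ s = 1 → θ s ^ p = 1 := fun s hs h1 => by
    ext v
    have h2 : v⁻¹ * θ s v ∈ π.ker := by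
      rw [hk, map_mul, toAdd_mul, he, h1, map_inv, toAdd_inv]; simp
    have h3 : ∀ k, (θ s ^ k) v = v * (v⁻¹ * θ s v) ^ k := fun k => by
      induction k with
      | zero => simp
      | succ k ih =>
        rw [pow_succ', MulAut.mul_apply, ih, map_mul, map_pow, hD s hs _ h2, pow_succ',
          ← mul_assoc, mul_inv_cancel_left]
    have h4 := hD s hs (v ^ p) (by rw [hk, map_pow, toAdd_pow]; ext; simp)
    rw [map_pow, ← mul_inv_cancel_left v (θ s v), Commute.mul_pow (hc h2 v), mul_eq_left] at h4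
    rw [h3, h4, mul_one, MulAut.one_apply]
  set t := t₀ ^ p
  have htR : t ∈ R := R.pow_mem ht₀ _
  have hψt : ψ t = -1 := by rw [map_pow, ht, Odd.neg_one_pow ⟨m, hm⟩]
  have hτ : θ t * θ t = 1 := by
    rw [← hpow _ (R.mul_mem ht₀ ht₀) (by rw [map_mul, ht]; simp), map_mul, map_pow,
      (Commute.refl _).mul_pow]
  have hinv : ∀ v, v * θ t v ∈ π.ker := fun v => by
    rw [hk, map_mul, toAdd_mul, he, hψt]
    simp [vecHead, vecTail]
  have hC : commutator V ≤ π.ker := Abelianization.commutator_subset_ker π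
  let η : V →* Abelianization V := Abelianization.of * Abelianization.of.comp (θ t).toMonoidHom
  have hη : ∀ {v}, v ∈ η.ker ↔ v * θ t v ∈ commutator V := fun {v} => by
    rw [← Abelianization.ker_of, MonoidHom.mem_ker, MonoidHom.mem_ker, map_mul]; rfl
  have hcm : ∀ {y}, y ∈ (centralizer {θ t}).comap θ → ∀ v, θ y (θ t v) = θ t (θ y v) :=
    fun hy v => DFunLike.congr_fun (mem_centralizer_singleton_iff.1 hy) v
  have hE : ∀ y ∈ (centralizer {θ t}).comap θ, ∀ v ∈ η.ker, θ y v ∈ η.ker := fun y hy v hv => by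
    rw [hη, ← hcm hy, ← map_mul]
    exact (characteristic_iff_le_comap.1 inferInstance (θ y)) (hη.1 hv)
  refine ⟨(centralizer {θ t}).comap θ, η.ker, le_antisymm (map_le_range _ _) ?_, hE,
    eq_top_iff.2 fun u _ => ?_, fun y hy hu v hv => ?_⟩
  · rintro _ ⟨x, rfl⟩
    have h1 : ψ (x * t * x⁻¹ * t) = 1 := by simp [hψt]
    have h2 := hpow _ (R.mul_mem (Normal.conj_mem ‹_› t htR x) htR) h1
    rw [hm, map_mul] at h2
    have h3 := conj_eq_of_mul_pow_odd (by rw [← map_mul, conj_mul, map_mul, map_mul, map_mul, hτ,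
      mul_one, ← map_mul, mul_inv_cancel, map_one]) hτ h2
    refine ⟨(x * t * x⁻¹ * t) ^ m * x, mem_centralizer_singleton_iff.2 ?_, by
      rw [map_mul, map_pow, h1, one_pow, one_mul]⟩
    rw [← mul_inv_eq_iff_eq_mul]
    refine Eq.trans ?_ h3
    simp only [map_mul, map_pow, map_inv]
    group
  · obtain ⟨v, rfl⟩ := hπ u
    obtain ⟨k, hk'⟩ := hsq (C := zpowers ((v * θ t v) ^ 2)) (mem_zpowers _)
    have h1 := π.ker.zpow_mem (hinv v) k
    refine ⟨v * ((v * θ t v) ^ k)⁻¹, hη.2 ?_, by
      rw [map_mul, map_inv, MonoidHom.mem_ker.1 h1, inv_one, mul_one]⟩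
    rw [map_mul, map_inv, hD t htR _ h1, mul_assoc, ← mul_assoc _ (θ t v),
      ← hc (inv_mem h1), mul_assoc, ← mul_assoc, ← _root_.mul_inv_rev, ← pow_two, ← zpow_natCast,
      ← _root_.zpow_mul, mul_comm k, _root_.zpow_mul, zpow_natCast]
    exact (mul_inv_eq_one.2 hk'.symm).symm ▸ one_mem _
  have hfC : ∀ c ∈ commutator V, θ y c = c := by
    obtain ⟨a, ha⟩ := hπ (.ofAdd ![1, 0])
    obtain ⟨b, hb⟩ := hπ (.ofAdd ![0, 1])
    let N := π.ker ⊓ (θ y).toMonoidHom.eqLocus (.id V)
    have : N.Normal := ⟨fun n hn g => by rwa [hc hn.1, mul_inv_cancel_right]⟩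
    have h1 : a⁻¹ * θ y a ∈ π.ker := by
      rw [hk, map_mul, toAdd_mul, he, hu, map_inv, toAdd_inv, ha]
      ext i; fin_cases i <;> simp
    have h2 : (a * b)⁻¹ * θ y b ∈ π.ker := by
      rw [hk, map_mul, toAdd_mul, he, hu, map_inv, toAdd_inv, map_mul, toAdd_mul, ha, hb]
      ext i; fin_cases i <;> simp
    have h3 : ⁅a, b⁆ ∈ π.ker := hC (commutator_mem_commutator trivial trivial)
    have h4 : Commute (a : V ⧸ N) b := by
      rw [← commutatorElement_eq_one_iff_commute]
      refine (QuotientGroup.eq_one_iff ⁅a, b⁆).2 ⟨h3, ?_⟩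
      change θ y _ = ⁅a, b⁆
      rw [map_commutatorElement, ← mul_inv_cancel_left a (θ y a),
        ← mul_inv_cancel_left (a * b) (θ y b)]
      rw [commutatorElement_mul_center_left (hZ h1), commutatorElement_mul_center_right (hZ h2),
        ← mul_inv_cancel_left a ⁅a, b⁆, hc h3, commutatorElement_def, commutatorElement_def]
      group
    have h5 : ∀ v : V, ∃ i j : ℕ, ∃ d ∈ center V, v = a ^ i * b ^ j * d := fun v =>
      ⟨((π v).toAdd 0).val, ((π v).toAdd 1).val, _, hZ (by
        rw [hk, map_mul π, map_inv π, map_mul π, map_pow π, map_pow π, ha, hb]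
        ext i; fin_cases i <;> simp), (mul_inv_cancel_left _ v).symm⟩
    refine fun c hc => ((commutator_le (H₃ := N)).2 (fun v _ w _ => ?_) hc).2
    obtain ⟨i, j, d, hd, rfl⟩ := h5 v
    obtain ⟨k, l, e, he, rfl⟩ := h5 w
    rw [commutatorElement_mul_center_left hd, commutatorElement_mul_center_right he,
      ← QuotientGroup.ker_mk' N, MonoidHom.mem_ker, map_commutatorElement,
      commutatorElement_eq_one_iff_commute, map_mul, map_mul, map_pow, map_pow, map_pow, map_pow]
    exact (((Commute.refl _).pow_pow i k).mul_right (h4.pow_pow i l)).mul_left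
      ((h4.symm.pow_pow j k).mul_right ((Commute.refl _).pow_pow j l))
  obtain ⟨a, ha⟩ : ∃ a, a = v * (θ y v)⁻¹ := ⟨_, rfl⟩
  have haE : a ∈ η.ker := ha ▸ mul_mem hv (inv_mem (hE y hy v hv))
  have h1 : a⁻¹ * θ y a ∈ π.ker := by
    rw [hk, map_mul, toAdd_mul, he, hu, map_inv, toAdd_inv, ha, map_mul, map_inv, toAdd_mul,
      toAdd_inv, he, hu]
    ext i; fin_cases i <;> simp [vecHead, vecTail, dotProduct, Fin.sum_univ_two]
  have h2 := hfC _ (hη.1 haE)
  rw [map_mul, hcm hy, ← mul_inv_cancel_left a (θ y a), map_mul, hD t htR _ h1, mul_assoc,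
    mul_right_inj, ← mul_assoc, ← hc h1, mul_assoc, mul_eq_left, ← pow_two] at h2
  rw [← ha, eq_comm, ← inv_mul_eq_one]
  exact hsq (C := ⊥) h2

variable {G : Type*} [Group G] [Finite G]

/-- A natural `SL₂(p)`-module in `V / D`, with `D` central in `V` and centralized by `O^p(M)`,
contradicts `p`-stability for `p` odd. -/
theorem not_isNormalizerPStable_of_natural' (hp2 : p ≠ 2) {M W : Type*} [Group M] [Finite M]
    [Group W] (μ : M →* G) (ψ : M →* SpecialLinearGroup (Fin 2) (ZMod p))
    (hψ : Function.Surjective ψ) {V : Subgroup G} (hV : IsPGroup p V) (θ : M →* MulAut V)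
    (hθ : ∀ m v, (θ m v : G) = μ m * v * (μ m)⁻¹) (κ : V →* W) (hκ : Function.Surjective κ)
    (j : Multiplicative (Fin 2 → ZMod p) →* W) (hj : Function.Injective j)
    (he : ∀ m v u, κ v = j (Multiplicative.ofAdd u) →
      κ (θ m v) = j (Multiplicative.ofAdd ((ψ m).1 *ᵥ u)))
    (hD : ∀ m ∈ pResidual p M, ∀ e ∈ κ.ker, θ m e = e) (hZ : κ.ker ≤ center V) :
    ¬ IsNormalizerPStable p G := by
  intro hst
  obtain ⟨t, ht, htn⟩ : -1 ∈ (pResidual p M).map ψ := by
    rw [map_pResidual_of_surjective ψ hψ]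
    exact mem_pResidual_of_coprime (((Nat.coprime_primes Nat.prime_two hp.out).2
      hp2.symm).coprime_dvd_left (orderOf_dvd_of_pow_eq_one neg_one_sq))
  let V₁ := j.range.comap κ
  have hV₁ : ∀ m, ∀ v ∈ V₁, θ m v ∈ V₁ := fun m v ⟨u, hu⟩ => ⟨_, (he m v u.toAdd hu.symm).symm⟩
  let θ₁ : M →* MulAut V₁ := MonoidHom.mk' (fun m =>
    { toFun v := ⟨θ m v, hV₁ m v v.2⟩
      invFun v := ⟨θ m⁻¹ v, hV₁ _ v v.2⟩
      left_inv v := Subtype.ext (by simp)
      right_inv v := Subtype.ext (by simp)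
      map_mul' v w := Subtype.ext (by simp) }) fun a b => by ext; simp
  let π : V₁ →* Multiplicative (Fin 2 → ZMod p) := (MonoidHom.ofInjective hj).symm.toMonoidHom.comp
    ((κ.comp V₁.subtype).codRestrict _ fun v => v.2)
  have hπ : ∀ v, j (π v) = κ v := fun v => MonoidHom.apply_ofInjective_symm hj _
  have hk : ∀ e ∈ π.ker, (e : V) ∈ κ.ker := fun e h => by
    rw [MonoidHom.mem_ker, ← hπ, MonoidHom.mem_ker.1 h, map_one]
  have he₁ : ∀ m v, (π (θ₁ m v)).toAdd = (ψ m).1 *ᵥ (π v).toAdd := fun m v =>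
    congrArg Multiplicative.toAdd (hj ((hπ _).trans (he m v _ (hπ v).symm)))
  obtain ⟨M₁, E, h1, h2, h3, h4⟩ := exists_quadratic_of_natural hp2 (hV.to_subgroup V₁) ψ θ₁ π
    (fun u => (hκ (j u)).elim fun v hv => ⟨⟨v, u, hv.symm⟩, hj ((hπ _).trans hv)⟩) he₁ _ ht htn
    (fun m hm e h => Subtype.ext (hD m hm e (hk e h)))
    fun e h => mem_center_iff.2 fun v => Subtype.ext (mem_center_iff.1 (hZ (hk e h)) v)
  rw [MonoidHom.range_eq_top.2 hψ] at h1
  let ι := V.subtype.comp V₁.subtype
  have hι : ∀ m v, ι (θ₁ m v) = μ m * ι v * (μ m)⁻¹ := fun m v => hθ m v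
  have hN : ∀ m ∈ M₁, μ m ∈ normalizer (E.map ι : Set G) := by
    intro m hm
    apply mem_normalizer_of_cj_le
    rw [cj_le_iff]
    rintro _ ⟨v, hv, rfl⟩
    exact ⟨_, h2 m hm v hv, hι m v⟩
  obtain ⟨y, hy, hyu⟩ : (⟨!![1, 1; 0, 1], by simp [det_fin_two]⟩ :
    SpecialLinearGroup (Fin 2) (ZMod p)) ∈ M₁.map ψ := h1 ▸ mem_top _
  have hq : ⁅⁅E.map ι, zpowers (μ y)⁆, zpowers (μ y)⁆ = ⊥ := by
    rw [commutator_eq_bot_iff_le_centralizer]
    refine TJ.commutator_zpowers_right_le (normalizer_le_normalizer_centralizer _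
      (le_normalizer (mem_zpowers _))) ?_
    rintro _ ⟨v, hv, rfl⟩
    rw [zpowers_eq_closure, centralizer_closure, mem_centralizer_singleton_iff]
    have h5 := congrArg ι (h4 y hy (congrArg Subtype.val hyu) v hv)
    rw [hι, mul_inv_eq_iff_eq_mul, map_mul, map_inv, hι] at h5
    rw [commutatorElement_def]
    convert h5.symm using 2 <;> group
  have h5 := ((isNormalizerPStable_iff.mp hst _ (((hV.to_subgroup V₁).to_subgroup E).map ι) _
    (hN y hy) hq).comap.restrict hN hy).map ψ
  rw [h1] at h5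
  have h6 := (inPCoreModIn_top.mp (h5.of_le (C' := pCore p _) (by
    rintro _ ⟨-, c, hc, rfl⟩
    suffices ψ c = 1 by rw [this]; exact one_mem _
    have h4 : ∀ u, (ψ c).1 *ᵥ u = u := by
      intro u
      obtain ⟨v, hv, e⟩ : Multiplicative.ofAdd u ∈ E.map π := h3 ▸ mem_top _
      have h5 := he₁ c v
      rw [show θ₁ c v = v from Subtype.ext (Subtype.ext ((hι c v).trans (mul_inv_eq_iff_eq_mul.2
        (mem_centralizer_iff.mp hc _ ⟨v, hv, rfl⟩).symm))), e] at h5
      exact h5.symm
    ext i k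
    have := congrFun (h4 (Pi.single k 1)) i
    rw [Matrix.mulVec_single_one] at this
    change _ = (1 : Matrix (Fin 2) (Fin 2) (ZMod p)) i k
    rw [Matrix.one_apply, ← Pi.single_apply]
    exact this))).mem_pCore
  rw [Qd.pCore_SL_two_eq_bot p, mem_bot] at h6
  simpa using congrArg (fun g : SpecialLinearGroup (Fin 2) (ZMod p) => g.1 0 1) (hyu.symm.trans h6)

/-- In a `p`-stable group (`p` odd): if `K` is generated by elements acting quadratically on the
`p`-group `U` modulo the centralizer of `O^p(K)`, then `O^p(K)` centralizes `U`. -/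
theorem resOf_le_centralizer_of_quadratic' (hp3 : p ≠ 2) (hst : IsNormalizerPStable p G)
    {U : Subgroup G} (hU : IsPGroup p U) {X : Set G} (hKU : closure X ≤ normalizer (U : Set G))
    (hq : ∀ x ∈ X, ∀ u ∈ U, ⁅x, ⁅x, u⁆⁆ ∈ centralizer (resOf p (closure X) : Set G)) :
    resOf p (closure X) ≤ centralizer (U : Set G) := by
  set K := closure X with hK
  set R := resOf p K with hR
  by_contra hne
  obtain ⟨V, ⟨hVU, hKV, hRV⟩, hmin⟩ := WellFounded.has_min (wellFounded_lt (α := Subgroup G))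
    {V : Subgroup G | V ≤ U ∧ K ≤ normalizer (V : Set G) ∧ ¬ R ≤ centralizer (V : Set G)}
    ⟨U, le_rfl, hKU, hne⟩
  have hV : IsPGroup p V := hU.to_le hVU
  set D := V ⊓ centralizer (R : Set G) with hD
  have hDV : D ≤ V := inf_le_left
  have hRD : R ≤ centralizer (D : Set G) := le_centralizer_iff.mp inf_le_right
  have hlt : ∀ W < V, K ≤ normalizer (W : Set G) → W ≤ D := fun W hW hKW => by
    by_contra h
    exact hmin W ⟨hW.le.trans hVU, hKW, fun h1 => h (le_inf hW.le (le_centralizer_iff.mp h1))⟩ hW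
  have hKR : K ≤ normalizer (R : Set G) := le_normalizer_resOf K
  have hKD : K ≤ normalizer (D : Set G) := fun k hk => by
    rw [← cj_eq_self_iff, hD, cj_inf, cj_centralizer, cj_eq_of_mem_normalizer (hKV hk),
      cj_eq_of_mem_normalizer (hKR hk)]
  have hV0 : V ≠ ⊥ := fun h => hRV (h ▸ MSS.le_centralizer_bot _)
  have hcent : ∀ {E : Subgroup G}, E ≤ K → ⁅V, resOf p E⁆ ≤ D →
      resOf p E ≤ centralizer (V : Set G) := fun hE h =>
    MSS.resOf_le_centralizer_of_commutator_le (hV.to_le hDV) h ((resOf_mono hE).trans hRD)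
  have hΦ : (frattini V).map V.subtype ≤ D := by
    refine hlt _ ?_ (hKV.trans (normalizer_le_normalizer_frattini V))
    have := (nontrivial_iff_ne_bot V).mpr hV0
    have h1 := (map_lt_map_iff_of_injective V.subtype_injective).mpr (frattini_lt_top (G := V))
    rwa [← MonoidHom.range_eq_map, range_subtype] at h1
  have hΦ' : frattini V ≤ D.subgroupOf V := map_le_iff_le_comap.mp hΦ
  have hDn : (D.subgroupOf V).Normal :=
    Normal.of_commutator_le _ ((commutator_le_frattini_of_isPGroup hV).trans hΦ')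
  have hVD : V ≤ normalizer (D : Set G) := (normal_subgroupOf_iff_le_normalizer hDV).mp hDn
  have hEA : ElemAb p (V ⧸ D.subgroupOf V) := (frattini_le_iff_elemAb_quotient hV _).mp hΦ'
  have hDZ : V ≤ centralizer (D : Set G) := by
    have h1 : ⁅V, R⁆ ≤ V := commutator_le_left_of_le_normalizer ((resOf_le K).trans hKV)
    have h2 : ⁅V, R⁆ = V := by
      by_contra h
      exact hRV (hcent le_rfl (hlt _ (lt_of_le_of_ne h1 h) fun k hk => by
        rw [← cj_eq_self_iff, cj_commutator, cj_eq_of_mem_normalizer (hKV hk),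
          cj_eq_of_mem_normalizer (hKR hk)]))
    rw [← h2]
    exact (commutator_mono le_rfl hRD).trans (commutator_le_right_of_le_normalizer
      (hVD.trans (normalizer_le_normalizer_centralizer D)))
  refine hRV (hcent le_rfl ((commutator_mono le_rfl (resOf_le K)).trans
    (MSS.commutator_closure_le hKD fun x hx => ?_)))
  by_contra hx0
  have hxK : x ∈ K := subset_closure hx
  let φ := Coprime.sectionAut hKV hKD
  obtain ⟨M, ψ, j, hψ, hj, h1⟩ := Qd.exists_natural (p := p) hp3 (Vec.rep p φ)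
    (x := ⟨x, hxK⟩) (Quad.rep_quadratic φ (by
      rintro ⟨v⟩
      refine QuotientGroup.eq.mpr ?_
      have h1 : ⁅x, (v : G)⁆ ∈ V := commutator_le_right_of_le_normalizer hKV
        (commutator_mem_commutator hxK v.2)
      have h2 : ⁅x, ⁅x, (v : G)⁆⁆ ∈ D := ⟨commutator_le_right_of_le_normalizer hKV
        (commutator_mem_commutator hxK h1), hq x hx v (hVU v.2)⟩
      have h3 := (mem_normalizer_iff''.mp (hVD h1) _).mp (D.inv_mem h2)
      change (x * (x * v * x⁻¹ * (v : G)⁻¹) * x⁻¹)⁻¹ * (x * v * x⁻¹ * (v : G)⁻¹) ∈ D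
      simp only [commutatorElement_def] at h3
      convert h3 using 1
      group)) (by
      intro hO
      have : (pCore p (K ⧸ MonoidHom.ker (Vec.rep p φ))).Normal := pCore_normal p _
      set N := ((pCore p (K ⧸ MonoidHom.ker (Vec.rep p φ))).comap (QuotientGroup.mk' _)).map
        K.subtype with hN
      have hNK : N ≤ K := map_subtype_le _
      have h2 : resOf p N ≤ φ.ker.map K.subtype := by
        refine resOf_le_of_pow_mem ?_
        rintro _ ⟨n, hn, rfl⟩
        obtain ⟨k, hk⟩ := pCore_isPGroup p _ ⟨_, hn⟩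
        refine ⟨k, n ^ p ^ k, ?_, rfl⟩
        rw [← Vec.rep_ker (p := p), SetLike.mem_coe, ← QuotientGroup.eq_one_iff]
        exact congrArg Subtype.val hk
      have h3 := hcent hNK ((commutator_mono le_rfl h2).trans
        (Coprime.commutator_map_ker_sectionAut_le hKV hKD))
      have h4 := hlt _ (MSS.commutator_lt_of_resOf_le hV (hNK.trans hKV) h3 hV0) fun k hk => by
        rw [← cj_eq_self_iff, cj_commutator, cj_eq_of_mem_normalizer (hKV hk),
          cj_eq_of_mem_normalizer (le_normalizer_map_subtype _ hk)]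
      exact hx0 fun v hv => h4 (commutator_mem_commutator hv ⟨⟨x, hxK⟩, hO, rfl⟩))
  refine not_isNormalizerPStable_of_natural' hp3 (K.subtype.comp M.subtype) ψ hψ hV
    ((conjAutOf V K hKV).comp M.subtype) (fun _ _ => rfl) (QuotientGroup.mk' (D.subgroupOf V))
    (QuotientGroup.mk'_surjective _)
    (MonoidHom.mk' (fun v => Vec.toMul (j v.toAdd)) fun v w => by simp) (fun v w hvw => hj hvw)
    (fun m v u hv => ?_) (fun m hm e he => ?_) (fun e he => ?_) hst
  · have := congrArg Vec.toMul (h1 m u)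
    refine Eq.trans ?_ this
    rw [Vec.rep_apply, Vec.toMul_ofMul]
    exact congrArg (φ m) hv
  · rw [QuotientGroup.ker_mk'] at he
    refine (conjAutOf_apply_eq_self_iff hKV _ _).mpr (mem_centralizer_iff.mp (hRD ?_) _ he).symm
    have := MSS.map_resOf_le (p := p) (K.subtype.comp M.subtype) ⊤ ⟨m, by rwa [resOf_top], rfl⟩
    exact resOf_mono (by rintro _ ⟨y, -, rfl⟩; exact y.1.2) this
  · rw [QuotientGroup.ker_mk'] at he
    exact mem_center_iff.mpr fun v => Subtype.ext (mem_centralizer_iff.mp (hDZ v.2) _ he).symm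

/-- For `p` odd, `p`-stability passes to quotients by normal `p`-subgroups centralized by
`O^p(G)`. -/
theorem IsNormalizerPStable.quotient_central' (hp3 : p ≠ 2) (h : IsNormalizerPStable p G)
    (Q : Subgroup G) [Q.Normal] (hQ : IsPGroup p Q)
    (hc : pResidual p G ≤ centralizer (Q : Set G)) : IsNormalizerPStable p (G ⧸ Q) := by
  rw [isNormalizerPStable_iff]
  intro U hU x hx hq
  set f := QuotientGroup.mk' Q with hf
  have hfs : Function.Surjective f := QuotientGroup.mk'_surjective _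
  obtain ⟨x, rfl⟩ := hfs x
  set B := U.comap f with hB
  have hBp : IsPGroup p B := hU.comap_of_ker_isPGroup f (by rwa [hf, QuotientGroup.ker_mk'])
  have hN : normalizer (B : Set G) = (normalizer (U : Set (G ⧸ Q))).comap f :=
    (comap_normalizer_eq_of_surjective U hfs).symm
  have hxN : x ∈ normalizer (B : Set G) := hN ▸ hx
  set X : Set G := {y | ∃ n ∈ normalizer (B : Set G), n * x * n⁻¹ = y} with hX
  have hXN : closure X ≤ normalizer (B : Set G) := (closure_le _).mpr (by
    rintro _ ⟨n, hn, rfl⟩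
    exact mul_mem (mul_mem hn hxN) (inv_mem hn))
  have h1 := resOf_le_centralizer_of_quadratic' hp3 h hBp hXN (by
    rintro _ ⟨n, hn, rfl⟩ u hu
    refine le_centralizer_iff.mp ((MSS.resOf_le_pResidual _).trans hc) ?_
    have h2 : ⁅x, ⁅x, n⁻¹ * u * n⁆⁆ ∈ Q := by
      rw [← QuotientGroup.ker_mk' Q, MonoidHom.mem_ker, map_commutatorElement,
        map_commutatorElement, ← mem_bot, ← hq, commutator_comm]
      refine commutator_mem_commutator (mem_zpowers _) ?_
      rw [commutator_comm]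
      exact commutator_mem_commutator (mem_zpowers _) ((mem_normalizer_iff''.mp hn u).mp hu)
    have h3 := Normal.conj_mem inferInstance _ h2 n
    simp only [commutatorElement_def] at h3 ⊢
    convert h3 using 1
    group)
  have h2 : InPCoreModIn p (normalizer (B : Set G)) (centralizer (B : Set G)) x := by
    refine ⟨closure X, hXN, fun g hg => mem_normalizer_of_cj_le ?_,
      subset_closure ⟨1, one_mem _, by group⟩,
      fun k hk => (exists_pow_mem_resOf hk).imp fun _ h => h1 h⟩
    rw [cj_closure, closure_le]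
    rintro _ ⟨_, ⟨n, hn, rfl⟩, rfl⟩
    exact subset_closure ⟨g * n, mul_mem hg hn, by group⟩
  have h3 := h2.map f
  rw [hN, map_comap_eq_self_of_surjective hfs] at h3
  refine h3.of_le ?_
  rintro _ ⟨-, c, hc, rfl⟩ u hu
  obtain ⟨u, rfl⟩ := hfs u
  rw [← map_mul, ← map_mul, hc u hu]

/-- **Glauberman**: for `p` odd, in a `p`-stable group `Z(J(D))` controls strong fusion for every
strongly closed `D`. -/
theorem zj_ctlFus_of_isNormalizerPStable' (hp3 : p ≠ 2) {n : ℕ} (hn : n = 0 ∨ n = p) {G : Type u}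
    [Group G] [Finite G] (hst : IsNormalizerPStable p G) {S D : Subgroup G} (hS : IsSylowIn p S ⊤)
    (hD : IsStronglyClosed D S) :
    CtlFus (normalizer (centerThompsonOf n D : Set G) : Subgroup G) S ⊤ := by
  rw [← inducedFunctor_zjFunctor]
  refine card_induction (P := fun Y _ _ => IsNormalizerPStable p Y → SCCtl p (zjFunctor n) Y) ?_ G
    hst S D hS hD
  intro Y _ _ ih hY
  by_cases h : centralizer (pCore p Y : Set Y) ≤ pCore p Y
  · exact zj_scCtl_of_constrained hp3 hn h (stableOnNormal_of_isNormalizerPStable hY)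
  · exact scCtl_step' (isCharPFunctor_zjFunctor hn)
      (fun H hH => ih H (card_subgroup_lt_of_ne_top hH) (IsNormalizerPStable.subgroup' hY H))
      (fun h1 => ih _ (card_quotient_lt_of_ne_bot h1)
        (IsNormalizerPStable.quotient_coprime hY _ (coprime_card_pPrimeCore p Y)))
      (fun h1 h2 => ih _ (card_quotient_lt_of_ne_bot h1)
        (IsNormalizerPStable.quotient_central' hp3 hY _ (pCore_isPGroup p Y) h2)) h

omit hp in
theorem IsNormalizerPStable.of_injective {A : Type*} [Group A] [Finite A]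
    (h : IsNormalizerPStable p G) (f : A →* G) (hf : Function.Injective f) :
    IsNormalizerPStable p A := by
  rw [isNormalizerPStable_iff] at h ⊢
  intro U hU x hx hq
  refine ((h _ (hU.map f) _ (le_normalizer_map f ⟨x, hx, rfl⟩) (by
    rw [← MonoidHom.map_zpowers, ← Subgroup.map_commutator, ← Subgroup.map_commutator, hq,
      Subgroup.map_bot])).comap.restrict (fun y hy => le_normalizer_map f ⟨y, hy, rfl⟩) hx).of_le
    fun c hc u hu => hf ?_
  rw [map_mul, map_mul]
  exact hc.2 _ ⟨u, hu, rfl⟩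

end Cfsg.Lib.Trans

namespace Cfsg.Lib.Trans

open scoped commutatorElement

universe u

variable {p : ℕ} [Fact p.Prime] {G : Type u} [Group G] [Finite G]

theorem zj_ctlFus_in' (hp : p ≠ 2) {S H : Subgroup G} (hst : IsNormalizerPStable p H)
    (hS : IsSylowIn p S H) :
    CtlFus (H ⊓ Subgroup.normalizer (centerThompsonOf 0 S : Set G) : Subgroup G) S H := by
  have h := (zj_ctlFus_of_isNormalizerPStable' hp (Or.inl rfl) hst hS.subgroupOf_top
    ⟨le_rfl, fun _ _ _ h => h⟩).normalizer_of_subtype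
  rwa [map_centerThompsonOf 0 _ H.subtype_injective, Subgroup.subgroupOf_map_subtype,
    inf_of_le_left hS.le] at h

theorem isNormalizerPStable_map_mk (hp : p ≠ 2) (hst : IsNormalizerPStable p G)
    {V K : Subgroup G} [V.Normal] [K.Normal] (hV : IsPGroup p V)
    (hK : ∀ x ∈ K, (orderOf x).Coprime p → x ∈ Subgroup.centralizer (V : Set G)) :
    IsNormalizerPStable p (K.map (QuotientGroup.mk' V)) := by
  let g := (QuotientGroup.mk' V).subgroupMap K
  have hg : ∀ x ∈ g.ker, (x : G) ∈ V := fun x hx =>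
    (QuotientGroup.eq_one_iff _).1 (congrArg Subtype.val hx)
  exact IsNormalizerPStable.of_injective (IsNormalizerPStable.quotient_central' hp
    (IsNormalizerPStable.subgroup' hst K) g.ker
    (fun x => (hV ⟨_, hg x x.2⟩).elim fun k h =>
      ⟨k, Subtype.ext (Subtype.ext (congrArg Subtype.val h :))⟩)
    ((Subgroup.closure_le _).2 fun x hx y hy => Subtype.ext
      (hK x x.2 (by rwa [Subgroup.orderOf_coe]) _ (hg y hy))))
    (QuotientGroup.quotientKerEquivOfSurjective g
      (MonoidHom.subgroupMap_surjective _ _)).symm.toMonoidHom (MulEquiv.injective _)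

/-- A normal `p`-subgroup that is not radical has a proper overgroup controlling strong fusion. -/
theorem exists_lt_ctlFus_of_normal' (hp : p ≠ 2)
    (hst : IsNormalizerPStable p G)
    {S V K : Subgroup G} (hS : IsSylowIn p S ⊤) [V.Normal] [K.Normal] (hV : V ≤ S)
    (hK : ∀ x ∈ K, (orderOf x).Coprime p → x ∈ Subgroup.centralizer (V : Set G))
    (h : ¬ S ⊓ K ≤ V) :
    ∃ W, V < W ∧ W ≤ S ∧ CtlFus (Subgroup.normalizer (W : Set G) : Subgroup G) S ⊤ := by
  let f := QuotientGroup.mk' V
  have hf : Function.Surjective f := QuotientGroup.mk'_surjective V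
  have hS' : IsSylowIn p (S.map f) ⊤ := by
    have := hS.map f
    rwa [Subgroup.map_top_of_surjective _ hf] at this
  have : (K.map f).Normal := Subgroup.Normal.map inferInstance f hf
  set Z := centerThompsonOf 0 (S.map f ⊓ K.map f) with hZ
  have hZle : Z ≤ S.map f ⊓ K.map f := centerThompsonOf_le _ _
  have h1 : SClosedIn Z (S.map f) ((⊤ : Subgroup G).map f) := by
    rw [Subgroup.map_top_of_surjective _ hf]
    exact SClosedIn.of_normal hS' (hZle.trans inf_le_right)
      ((zj_ctlFus_in' hp (isNormalizerPStable_map_mk hp hst (hS.isPGroup.to_le hV) hK)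
        (hS'.inf_normal_of_le (by rw [Subgroup.normalizer_eq_top]) le_top)).sClosedIn hZle
        inf_le_right) (normalizer_le_normalizer_centerThompsonOf _ _)
  have hVW : V ≤ Z.comap f := fun v hv => by
    rw [Subgroup.mem_comap, show f v = 1 from (QuotientGroup.eq_one_iff v).mpr hv]
    exact Z.one_mem
  have hWS : Z.comap f ≤ S := by
    refine (Subgroup.comap_mono (hZle.trans inf_le_left)).trans ?_
    rw [Subgroup.comap_map_eq, QuotientGroup.ker_mk']
    exact sup_le le_rfl hV
  have hWK : Z.comap f ≤ K ⊔ V := by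
    refine (Subgroup.comap_mono (hZle.trans inf_le_right)).trans ?_
    rw [Subgroup.comap_map_eq, QuotientGroup.ker_mk']
  obtain ⟨m, hm⟩ := exists_iterCommutator_eq_bot_of_mul (K := K ⊔ V) hS.isPGroup
    (hS.isPGroup.to_le hV) (by rw [Subgroup.normalizer_eq_top]; exact le_top) (by
      intro x hx
      obtain ⟨v, hv, k, hk, rfl⟩ := Subgroup.mem_sup_of_normal_left.mp (sup_comm K V ▸ hx)
      obtain ⟨t, ht, c, hc, -, rfl⟩ := (hS.inf_normal_of_le (N := K)
        (by rw [Subgroup.normalizer_eq_top]) le_top).exists_mul_eq hK hk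
      exact ⟨v * t, S.mul_mem (hV hv) ht.1, c, hc, by rw [mul_assoc]⟩)
  refine ⟨Z.comap f, lt_of_le_of_ne hVW fun e => ?_, hWS, ?_⟩
  · refine centerThompsonOf_ne_bot (p := p) (Or.inl rfl) hS'.isPGroup.to_inf_left (fun h2 => h ?_)
      (?_ : Z = ⊥)
    · rw [← QuotientGroup.ker_mk' V, ← Subgroup.map_eq_bot_iff, eq_bot_iff, ← h2]
      exact Subgroup.map_inf_le _ _ _
    · rw [← Subgroup.map_comap_eq_self_of_surjective hf Z, ← e, Subgroup.map_eq_bot_iff,
        QuotientGroup.ker_mk']
  · have hN : ∀ i, (iterCommutator V (K ⊔ V) i).Normal := by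
      intro i
      induction i with
      | zero => assumption
      | succ i ih => exact Subgroup.commutator_normal _ _
    have := ctlFus_normalizer_of_chain hS hWS
      (fun i => Nat.rec (Z.comap f) (fun i _ => iterCommutator V (K ⊔ V) i) i) rfl (n := m + 1) hm
      ?_ ?_
    · rwa [top_inf_eq] at this
    · rintro (_ | i)
      · exact h1.comap f
      · have := hN i
        exact sClosedIn_of_le_normalizer (by rw [Subgroup.normalizer_eq_top])
    · rintro (_ | i)
      · refine Subgroup.commutator_le.mpr fun a ha b hb => ?_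
        change ⁅a, b⁆ ∈ V
        rw [← QuotientGroup.ker_mk' V, MonoidHom.mem_ker, map_commutatorElement,
          commutatorElement_eq_one_iff_commute]
        exact centerThompsonOf_comm _ _ ha hb
      · exact Subgroup.commutator_mono le_rfl hWK

/-- There is a radical subgroup whose normalizer controls strong fusion. -/
theorem exists_radicalIn_ctlFus' (hp : p ≠ 2)
    (hst : IsNormalizerPStable p G)
    {S : Subgroup G} (hS : IsSylowIn p S ⊤) :
    ∃ V ≤ S, S ≤ Subgroup.normalizer (V : Set G) ∧ RadicalIn p S ⊤ V ∧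
      CtlFus (Subgroup.normalizer (V : Set G) : Subgroup G) S ⊤ := by
  obtain ⟨V, ⟨hV, hc⟩, hmax⟩ := WellFounded.has_min (wellFounded_gt (α := Subgroup G))
    {V : Subgroup G | V ≤ S ∧ CtlFus (Subgroup.normalizer (V : Set G) : Subgroup G) S ⊤}
    ⟨⊥, bot_le, fun A _ g _ hg => Fus.step (by
      rw [Subgroup.normalizer_eq_top]; trivial) hg⟩
  have hSN : S ≤ Subgroup.normalizer (V : Set G) := fun s hs => mem_normalizer_of_cj_le
    ((hc.sClosedIn hV le_rfl).cj_le le_rfl trivial (cj_le_of_mem_of_le hs hV))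
  refine ⟨V, hV, hSN, fun K hK hKn hKc => ?_, hc⟩
  rw [top_inf_eq] at hK hKn
  set N := Subgroup.normalizer (V : Set G) with hN
  have hVN : V ≤ N := Subgroup.le_normalizer
  have : (K.subgroupOf N).Normal := (Subgroup.normal_subgroupOf_iff_le_normalizer hK).mpr hKn
  by_contra h
  obtain ⟨W, hVW, hWS, hW⟩ := exists_lt_ctlFus_of_normal' (G := N) hp
    (IsNormalizerPStable.subgroup' hst N)
    (hS.mono hSN le_top).subgroupOf_top (V := V.subgroupOf N) (K := K.subgroupOf N)
    (Subgroup.comap_mono hV)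
    (fun x hx hcop => Subgroup.mem_centralizer_iff.mpr fun v hv => Subtype.ext
      (Subgroup.mem_centralizer_iff.mp (hKc x hx (by rwa [Subgroup.orderOf_coe])) v hv))
    (fun h1 => h fun x hx => h1 (show (⟨x, hK hx.2⟩ : N) ∈ _ from hx))
  have h2 := hW.normalizer_of_subtype
  rw [Subgroup.subgroupOf_map_subtype, inf_of_le_left hSN] at h2
  refine hmax (W.map N.subtype) ⟨?_, (hc.trans h2).mono fun x hx => hx.2⟩ ?_
  · refine (Subgroup.map_mono hWS).trans ?_
    rw [Subgroup.subgroupOf_map_subtype]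
    exact inf_le_left
  · have := (Subgroup.map_lt_map_iff_of_injective N.subtype_injective).mpr hVW
    rwa [Subgroup.subgroupOf_map_subtype, inf_of_le_left hVN] at this

end Cfsg.Lib.Trans
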