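import Cfsg.Agent.Trans.Tate
import Cfsg.Agent.Trans.Alperin
import Cfsg.Agent.Solv.CoprimeFixed

/-!
# Frobenius' normal `p`-complement criterion tested on centric radical subgroups
-/

set_option autoImplicit false

namespace Cfsg.Lib.Trans

open Cfsg Subgroup
open scoped Pointwise commutatorElement

variable {G : Type*} [Group G] [Finite G] {p : ℕ} [hp : Fact p.Prime]

theorem isPGroup_map_of_forall_coprime {G' : Type*} [Group G'] (f : G →* G') {X : Subgroup G}
    (h : ∀ x ∈ X, (orderOf x).Coprime p → f x = 1) : IsPGroup p (X.map f) := by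
  rintro ⟨_, x, hx, rfl⟩
  obtain ⟨k, hk⟩ := exists_pow_orderOf_coprime (p := p) x
  exact ⟨k, Subtype.ext (by simpa using h _ (pow_mem hx _) hk)⟩

/-- If `N_G(T) = K M` with `K` normal and the `p'`-elements of `K` and of `M` centralize `T`, then
all `p'`-elements of `N_G(T)` centralize `T`. -/
theorem mem_centralizer_of_mul {T K M : Subgroup G} (hK : K ≤ normalizer (T : Set G))
    (hM : M ≤ normalizer (T : Set G)) (hMK : M ≤ normalizer (K : Set G))
    (h1 : ∀ x ∈ K, (orderOf x).Coprime p → x ∈ centralizer (T : Set G))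
    (h2 : ∀ x ∈ M, (orderOf x).Coprime p → x ∈ centralizer (T : Set G))
    {g : G} (hg : g ∈ K ⊔ M) (hc : (orderOf g).Coprime p) : g ∈ centralizer (T : Set G) := by
  set N := normalizer (T : Set G)
  have hker : ∀ x : N, T.normalizerMonoidHom x = 1 ↔ (x : G) ∈ centralizer (T : Set G) := by
    intro x
    rw [← MonoidHom.mem_ker, normalizerMonoidHom_ker, mem_subgroupOf]
  have e1 : IsPGroup p ((K.subgroupOf N).map T.normalizerMonoidHom) :=
    isPGroup_map_of_forall_coprime _ fun x hx h => (hker x).mpr (h1 x hx (by rwa [orderOf_coe]))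
  have e2 : IsPGroup p ((M.subgroupOf N).map T.normalizerMonoidHom) :=
    isPGroup_map_of_forall_coprime _ fun x hx h => (hker x).mpr (h2 x hx (by rwa [orderOf_coe]))
  have e3 := IsPGroup.to_sup_of_normal_left' e1 e2 (by
    refine le_trans (map_mono ?_) (le_normalizer_map _)
    intro x hx
    have := hMK hx
    rw [mem_normalizer_iff] at this ⊢
    exact fun y => this y)
  rw [← Subgroup.map_sup, ← subgroupOf_sup hK hM] at e3
  have hgN : g ∈ N := sup_le hK hM hg
  have e4 := eq_one_of_isPGroup_of_coprime e3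
    (g := ⟨T.normalizerMonoidHom ⟨g, hgN⟩, mem_map_of_mem _ hg⟩) (by
      rw [orderOf_mk]
      exact Nat.Coprime.coprime_dvd_left (orderOf_map_dvd _ _) (by rwa [orderOf_mk]))
  exact (hker ⟨g, hgN⟩).mp (congrArg Subtype.val e4)

/-- Frobenius' criterion needs to be checked only for fully normalized subgroups `T` of the Sylow
subgroup `S` which are centric and radical: `S ∩ K ≤ T` for every normal subgroup `K` of `N_G(T)`
inducing a `p`-group on `T`. -/
theorem hasNormalPComplement_of_radical (S : Sylow p G)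
    (h : ∀ T : Subgroup G, T ≤ S → FullyNorm p S ⊤ T →
      (∀ K ≤ normalizer (T : Set G), normalizer (T : Set G) ≤ normalizer (K : Set G) →
        (∀ x ∈ K, (orderOf x).Coprime p → x ∈ centralizer (T : Set G)) →
          (S : Subgroup G) ⊓ K ≤ T) →
      ∀ g ∈ normalizer (T : Set G), (orderOf g).Coprime p → g ∈ centralizer (T : Set G)) :
    HasNormalPComplement p G := by
  have key : ∀ n, ∀ Q : Subgroup G, Q ≤ S → Nat.card G - Nat.card Q = n →
      ∀ g ∈ normalizer (Q : Set G), (orderOf g).Coprime p → g ∈ centralizer (Q : Set G) := by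
    intro n
    induction n using Nat.strong_induction_on with
    | _ n ih =>
    intro Q hQ hn g hg hc
    obtain ⟨u, -, hT, hF, -⟩ := exists_fullyNorm (isSylowIn_top S) hQ
    rw [← conj_mem_cj (g := u), cj_centralizer]
    rw [← conj_mem_cj (g := u), cj_normalizer] at hg
    have hc' : (orderOf (u * g * u⁻¹)).Coprime p := by
      rwa [show orderOf (u * g * u⁻¹) = orderOf g from (MulAut.conj u).orderOf_eq g]
    rw [← card_cj u] at hn
    generalize cj u Q = T at *
    by_cases hr : ∀ K ≤ normalizer (T : Set G), normalizer (T : Set G) ≤ normalizer (K : Set G) →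
        (∀ x ∈ K, (orderOf x).Coprime p → x ∈ centralizer (T : Set G)) → (S : Subgroup G) ⊓ K ≤ T
    · exact h T hT hF hr _ hg hc'
    push Not at hr
    obtain ⟨K, hK1, hK2, hK3, hK4⟩ := hr
    have hV := (fullyNorm_top_iff'.mp hF).inf_normal_of_le hK2 hK1
    rw [inf_assoc, inf_eq_right.mpr hK1] at hV
    obtain ⟨k, hk, m, hm, e⟩ := hV.frattini (hK2 hg)
    have hlt : T < T ⊔ (S : Subgroup G) ⊓ K := left_lt_sup.mpr hK4
    have hle : T ⊔ (S : Subgroup G) ⊓ K ≤ S := sup_le hT inf_le_left
    refine mem_centralizer_of_mul (p := p)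
      (M := normalizer (T : Set G) ⊓ normalizer (((S : Subgroup G) ⊓ K : Subgroup G) : Set G))
      hK1 inf_le_left (inf_le_left.trans hK2) hK3 (fun x hx hxc => ?_) ?_ hc'
    · refine centralizer_le hlt.le (ih _ ?_ _ hle rfl x
        (normalizer_inf_normalizer_le_normalizer_sup _ _ hx) hxc)
      have h1 := card_lt_of_lt hlt
      have h2 := card_le_card_group (T ⊔ (S : Subgroup G) ⊓ K)
      omega
    · rw [e]
      refine mul_mem (mem_sup_left hk) (mem_sup_right ⟨?_, hm⟩)
      have := mul_mem (inv_mem (hK1 hk)) hg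
      rwa [e, inv_mul_cancel_left] at this
  exact hasNormalPComplement_of_forall_le_sylow S fun Q hQ _ => key _ Q hQ rfl

omit [Finite G] hp in
/-- The stabilizer in `N_G(T)` of the chain `T ≥ U ≥ 1`. -/
def chainStabilizer (T U : Subgroup G) (hU : normalizer (T : Set G) ≤ normalizer (U : Set G)) :
    Subgroup G where
  carrier := {g | g ∈ normalizer (T : Set G) ⊓ centralizer (U : Set G) ∧ ∀ t ∈ T, ⁅g, t⁆ ∈ U}
  one_mem' := ⟨one_mem _, fun t _ => by simp⟩
  mul_mem' := fun {a b} ha hb => ⟨mul_mem ha.1 hb.1, fun t ht => by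
    have e : ⁅a * b, t⁆ = a * ⁅b, t⁆ * a⁻¹ * ⁅a, t⁆ := by
      simp only [commutatorElement_def]; group
    rw [e]
    exact mul_mem (mem_normalizer_conj (hU ha.1.1) (hb.2 t ht)) (ha.2 t ht)⟩
  inv_mem' := fun {a} ha => ⟨inv_mem ha.1, fun t ht => by
    have e : ⁅a⁻¹, t⁆ = a⁻¹ * ⁅a, t⁆⁻¹ * a := by
      simp only [commutatorElement_def]; group
    rw [e]
    exact mem_normalizer_conj' (hU ha.1.1) (inv_mem (ha.2 t ht))⟩

omit [Finite G] hp in
theorem mem_chainStabilizer {T U : Subgroup G}
    {hU : normalizer (T : Set G) ≤ normalizer (U : Set G)} {g : G} :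
    g ∈ chainStabilizer T U hU ↔
      g ∈ normalizer (T : Set G) ⊓ centralizer (U : Set G) ∧ ∀ t ∈ T, ⁅g, t⁆ ∈ U := Iff.rfl

omit hp in
theorem normalizer_le_normalizer_chainStabilizer {T U : Subgroup G}
    (hU : normalizer (T : Set G) ≤ normalizer (U : Set G)) :
    normalizer (T : Set G) ≤ normalizer (chainStabilizer T U hU : Set G) := by
  intro n hn
  apply mem_normalizer_fintype
  intro a ha
  refine ⟨⟨(normalizer (T : Set G)).mul_mem (mul_mem hn ha.1.1) (inv_mem hn),
    mem_normalizer_conj (normalizer_le_normalizer_centralizer U (hU hn)) ha.1.2⟩, fun t ht => ?_⟩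
  have e : ⁅n * a * n⁻¹, t⁆ = n * ⁅a, n⁻¹ * t * n⁆ * n⁻¹ := by
    simp only [commutatorElement_def]; group
  rw [e]
  exact mem_normalizer_conj (hU hn) (ha.2 _ (mem_normalizer_conj' hn ht))

theorem mem_centralizer_of_mem_chainStabilizer {T U : Subgroup G} (hUp : IsPGroup p U)
    {hU : normalizer (T : Set G) ≤ normalizer (U : Set G)} {g : G}
    (hg : g ∈ chainStabilizer T U hU) (hc : (orderOf g).Coprime p) :
    g ∈ centralizer (T : Set G) := by
  rw [← zpowers_le]
  refine Solv.Coprime.le_centralizer_of_commutator_le (N := U) ?_ ?_ (zpowers_le.mpr hg.1.2)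
  · obtain ⟨k, hk⟩ := IsPGroup.iff_card.mp hUp
    rw [hk, Nat.card_zpowers]
    exact hc.pow_right k
  · rw [Subgroup.commutator_comm, commutator_le]
    intro a ha t ht
    exact (zpowers_le.mpr hg ha).2 t ht

end Cfsg.Lib.Trans
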